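import Groth.Prelude.Def_ThetaK
import Groth.Prelude.Def_SGA7IX
import Mathlib.RingTheory.Henselian
import Mathlib.AlgebraicGeometry.Geometrically.Integral

/-!
# The plan of S14306: vocabulary and the exact statements of its nodes

Nothing is proved here.  `MB.Node...` are the statements of the nodes, as `Prop`s; each is proved by its owner in
his own files as a theorem with exactly this type (`theorem main : K270.MB.Node...`).

Conventions: everything on points.  `Fac i x`: the point `x` factors through `i`.  `U T`: invertible functions on `T`.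
`R` is a local ring, `FractionRing R` its field of fractions, `gen R : Spec (Frac R) ⟶ Spec R`.
-/

set_option autoImplicit false
set_option linter.unusedVariables false
universe u
open CategoryTheory CategoryTheory.Limits MonoidalCategory CartesianMonoidalCategory MonObj AlgebraicGeometry

noncomputable section

namespace K270.MB

section General

variable {S : Scheme.{u}}

/-- The point `x` of `G` factors through `i : H ⟶ G`. -/
def Fac {T G H : Over S} (i : H ⟶ G) (x : T ⟶ G) : Prop := ∃ y : T ⟶ H, y ≫ i = x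

/-- The invertible functions on an `S`-scheme. -/
abbrev U (T : Over S) : Type u := Γ(T.left, ⊤)ˣ

/-- Restriction of invertible functions. -/
def ures {T T' : Over S} (g : T' ⟶ T) : U T →* U T' := Units.map (g.left.appTop.hom : Γ(T.left, ⊤) →* Γ(T'.left, ⊤))

theorem ures_id {T : Over S} (u : U T) : ures (𝟙 T) u = u := by
  apply Units.ext
  change (Scheme.Hom.appTop (𝟙 T : T ⟶ T).left) (u : Γ(T.left, ⊤)) = _
  rw [Over.id_left, Scheme.Hom.id_appTop]
  rfl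

theorem ures_comp {T T' T'' : Over S} (g : T' ⟶ T) (h : T'' ⟶ T') (u : U T) :
    ures (h ≫ g) u = ures h (ures g u) := by
  apply Units.ext
  change (Scheme.Hom.appTop (h ≫ g).left) (u : Γ(T.left, ⊤)) =
    (Scheme.Hom.appTop h.left) ((Scheme.Hom.appTop g.left) (u : Γ(T.left, ⊤)))
  rw [Over.comp_left, Scheme.Hom.comp_appTop]
  rfl

/-- A closed subgroup. -/
structure IsClSub {H G : Over S} [GrpObj H] [GrpObj G] (i : H ⟶ G) : Prop where
  mon : IsMonHom i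
  closed : IsClosedImmersion i.left

/-- A bimultiplicative pairing of `S`-groups with values in `𝔾_m`, on points. -/
structure Pairing (X Y : Over S) [GrpObj X] [GrpObj Y] where
  e : ∀ {T : Over S}, (T ⟶ X) → (T ⟶ Y) → U T
  nat : ∀ {T T' : Over S} (g : T' ⟶ T) (x : T ⟶ X) (y : T ⟶ Y), e (g ≫ x) (g ≫ y) = ures g (e x y)
  mul_left : ∀ {T : Over S} (x x' : T ⟶ X) (y : T ⟶ Y), e (x * x') y = e x y * e x' y
  mul_right : ∀ {T : Over S} (x : T ⟶ X) (y y' : T ⟶ Y), e x (y * y') = e x y * e x y'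

/-- A bimultiplicative pairing on the points of an `S`-group killed by `N`. -/
structure TPairing (X : Over S) [GrpObj X] (N : ℕ) where
  e : ∀ {T : Over S} (x y : T ⟶ X), x ^ N = 1 → y ^ N = 1 → U T
  nat : ∀ {T T' : Over S} (g : T' ⟶ T) (x y : T ⟶ X) (hx : x ^ N = 1) (hy : y ^ N = 1)
    (hx' : (g ≫ x) ^ N = 1) (hy' : (g ≫ y) ^ N = 1), e (g ≫ x) (g ≫ y) hx' hy' = ures g (e x y hx hy)
  mul_left : ∀ {T : Over S} (x x' y : T ⟶ X) (hx : x ^ N = 1) (hx' : x' ^ N = 1) (hxx' : (x * x') ^ N = 1)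
    (hy : y ^ N = 1), e (x * x') y hxx' hy = e x y hx hy * e x' y hx' hy
  mul_right : ∀ {T : Over S} (x y y' : T ⟶ X) (hx : x ^ N = 1) (hy : y ^ N = 1) (hy' : y' ^ N = 1)
    (hyy' : (y * y') ^ N = 1), e x (y * y') hx hyy' = e x y hx hy * e x y' hx hy'

/-- `M` is `μ_N ^ r`, through the universal characters `χ`. -/
structure IsMu (N r : ℕ) (M : Over S) [GrpObj M] (χ : Fin r → U M) : Prop where
  mul : ∀ {T : Over S} (x y : T ⟶ M) (j : Fin r), ures (x * y) (χ j) = ures x (χ j) * ures y (χ j)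
  pow : ∀ j : Fin r, χ j ^ N = 1
  bij : ∀ {T : Over S} (v : Fin r → U T), (∀ j, v j ^ N = 1) → ∃! x : T ⟶ M, ∀ j, ures x (χ j) = v j

end General

section Loc

variable (R : Type u) [CommRing R]

/-- The generic point. -/
abbrev gen [IsDomain R] : Spec (CommRingCat.of (FractionRing R)) ⟶ Spec (CommRingCat.of R) :=
  Spec.map (CommRingCat.ofHom (algebraMap R (FractionRing R)))

/-- `i : F ⟶ A` is the finite part of the `N`-torsion of `A` (over a local ring): a finite flat closed subgroup of `A`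
killed by `N`, open in `A[N]`, containing all `N`-torsion points with values in schemes over the closed point. -/
structure IsFinPart [IsLocalRing R] (A : Over (Spec (CommRingCat.of R))) [GrpObj A] (N : ℕ)
    {F : Over (Spec (CommRingCat.of R))} [GrpObj F] (i : F ⟶ A) : Prop extends IsClSub i where
  finite : IsFinite F.hom
  flat : Flat F.hom
  pow : i ^ N = 1
  opn : ∀ {T : Over (Spec (CommRingCat.of R))} (x : T ⟶ A), x ^ N = 1 → (∀ t, x.left t ∈ Set.range i.left) → Fac i x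
  cl : ∀ {T : Over (Spec (CommRingCat.of R))} (x : T ⟶ A), x ^ N = 1 →
    (∀ t, T.hom t = IsLocalRing.closedPoint R) → Fac i x

/-- The subgroup functor `Q` of the generic fibre of `G` extends to a flat closed subgroup of `G`. -/
def FlatExt [IsDomain R] (G : Over (Spec (CommRingCat.of R))) [GrpObj G]
    (Q : ∀ {T : Over (Spec (CommRingCat.of (FractionRing R)))}, (T ⟶ Red.bc (gen R) G) → Prop) : Prop :=
  ∃ (H : Over (Spec (CommRingCat.of R))) (_ : GrpObj H) (i : H ⟶ G), IsClSub i ∧ Flat H.hom ∧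
    ∀ {T : Over (Spec (CommRingCat.of (FractionRing R)))} (x : T ⟶ Red.bc (gen R) G),
      Fac ((Over.pullback (gen R)).map i) x ↔ Q x

end Loc

/-! ## Node (0): COSET and CLOSURE lemmas (helper982) -/

/-- COSET: `G₀ ⊂ G` open and closed subgroup. -/
def NodeCoset : Prop :=
  ∀ (R : Type u) [CommRing R] [IsDomain R] [IsNoetherianRing R] [IsIntegrallyClosed R] [HenselianLocalRing R]
    [IsSepClosed (IsLocalRing.ResidueField R)]
    (G G₀ : Over (Spec (CommRingCat.of R))) [GrpObj G] [IsCommMonObj G] [GrpObj G₀] (i : G₀ ⟶ G)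
    (_ : IsFinite G.hom) (_ : Flat G.hom) (_ : IsClSub i) (_ : IsOpenImmersion i.left)
    (H : Over (Spec (CommRingCat.of (FractionRing R)))) [GrpObj H] (j : H ⟶ Red.bc (gen R) G) (_ : IsClSub j),
    FlatExt R G₀ (fun x => Fac j (x ≫ (Over.pullback (gen R)).map i)) → FlatExt R G (fun x => Fac j x)

/-- CLOSURE: `M = μ_N^r ⊂ P`, and `P_η = H · M_η`. -/
def NodeClosure : Prop :=
  ∀ (R : Type u) [CommRing R] [IsDomain R] [IsNoetherianRing R] [IsIntegrallyClosed R] [IsLocalRing R]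
    (P M : Over (Spec (CommRingCat.of R))) [GrpObj P] [IsCommMonObj P] [GrpObj M] (i : M ⟶ P)
    (_ : IsFinite P.hom) (_ : Flat P.hom) (_ : IsClSub i) (N r : ℕ) (_ : 0 < N) (χ : Fin r → U M) (_ : IsMu N r M χ)
    (H : Over (Spec (CommRingCat.of (FractionRing R)))) [GrpObj H] (j : H ⟶ Red.bc (gen R) P) (_ : IsClSub j)
    (_ : ∀ (T : Over (Spec (CommRingCat.of (FractionRing R)))) (x : T ⟶ Red.bc (gen R) P),
      ∃ (T' : Over (Spec (CommRingCat.of (FractionRing R)))) (g : T' ⟶ T) (u : T' ⟶ Red.bc (gen R) M),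
        Surjective g.left ∧ Flat g.left ∧ QuasiCompact g.left ∧
          Fac j ((g ≫ x) * (u ≫ (Over.pullback (gen R)).map i)⁻¹)),
    FlatExt R P (fun x => Fac j x)

/-! ## Node (4): RIGIDITY (helper521) -/

/-- RIGIDITY. -/
def NodeRigidity : Prop :=
  ∀ (R : Type u) [CommRing R] [IsLocalRing R] [IsNoetherianRing R] [IsSepClosed (IsLocalRing.ResidueField R)]
    (p : ℕ) (_ : p.Prime) (_ : (p : R) ∈ IsLocalRing.maximalIdeal R)
    (A : Over (Spec (CommRingCat.of R))) [GrpObj A] [IsCommMonObj A] (_ : Smooth A.hom) (_ : IsSeparated A.hom)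
    (_ : QuasiCompact A.hom)
    (F M D : ℕ → Over (Spec (CommRingCat.of R))) [∀ m, GrpObj (F m)] [∀ m, GrpObj (M m)] [∀ m, GrpObj (D m)]
    (f : ∀ m, F m ⟶ A) (_ : ∀ m, IsFinPart R A (p ^ m) (f m))
    (i : ∀ m, M m ⟶ F m) (_ : ∀ m, IsClSub (i m)) (r : ℕ) (χ : ∀ m, Fin r → U (M m)) (_ : ∀ m, IsMu (p ^ m) r (M m) (χ m))
    (t : ∀ m, M m ⟶ M (m + 1)) (_ : ∀ m, t m ≫ i (m + 1) ≫ f (m + 1) = i m ≫ f m)
    (_ : ∀ m j, ures (t m) (χ (m + 1) j) = χ m j)
    (h : ℕ) (_ : ∀ m s, (F m).hom.finrank s = p ^ (m * (h + r)))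
    (e : ∀ m, Pairing (F m) (F m))
    (_ : ∀ (m : ℕ) {T : Over (Spec (CommRingCat.of R))} (x y : T ⟶ F m), (e m).e x y * (e m).e y x = 1)
    (_ : ∀ (m : ℕ) {T : Over (Spec (CommRingCat.of R))} (x : T ⟶ F m) (x' y : T ⟶ F (m + 1)) (y' : T ⟶ F m),
      x' ≫ f (m + 1) = x ≫ f m → (y ≫ f (m + 1)) ^ p = y' ≫ f m → (e (m + 1)).e x' y = (e m).e x y')
    (_ : ∀ (m : ℕ) {T : Over (Spec (CommRingCat.of R))} (x : T ⟶ M m) (y : T ⟶ F m), (e m).e (x ≫ i m) y = 1)
    (_ : ∀ (m : ℕ) {T : Over (Spec (CommRingCat.of R))} (x : T ⟶ F m) (y : T ⟶ M m), (e m).e x (y ≫ i m) = 1)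
    (d : ∀ m, D m ⟶ F m) (_ : ∀ m, IsClSub (d m))
    (_ : ∀ (m : ℕ) {T : Over (Spec (CommRingCat.of R))} (x : T ⟶ F m),
      Fac (d m) x ↔ ∀ {T' : Over (Spec (CommRingCat.of R))} (g : T' ⟶ T) (y : T' ⟶ F m), (e m).e (g ≫ x) y = 1)
    (c : ℕ) (_ : ∀ (m : ℕ) {T : Over (Spec (CommRingCat.of R))} (x : T ⟶ D m),
      (∀ t, T.hom t = IsLocalRing.closedPoint R) → Fac (i m) ((x ≫ d m) ^ (p ^ c))),
    ∃ m₀, ∀ m, m₀ ≤ m → Flat (D m).hom

/-! ## Node (N7): GENERIC COUNTING over a field (helper106) -/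

/-- COUNTING.  `W m = X[p^m]`, `F m` and `M m` closed subgroups of it, `Kl` the radical of the pairings. -/
def NodeCount : Prop :=
  ∀ (K : Type u) [Field K] (p : ℕ) (_ : p.Prime) (X : Over (Spec (CommRingCat.of K))) [GrpObj X] [IsCommMonObj X]
    (W F M : ℕ → Over (Spec (CommRingCat.of K))) [∀ m, GrpObj (W m)] [∀ m, GrpObj (F m)] [∀ m, GrpObj (M m)]
    (w : ∀ m, W m ⟶ X) (_ : ∀ m, IsClSub (w m)) (_ : ∀ m, IsFinite (W m).hom)
    (_ : ∀ (m : ℕ) {T : Over (Spec (CommRingCat.of K))} (x : T ⟶ X), Fac (w m) x ↔ x ^ (p ^ m) = 1)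
    (f : ∀ m, F m ⟶ X) (_ : ∀ m, IsClSub (f m)) (_ : ∀ m, IsFinite (F m).hom)
    (_ : ∀ (m : ℕ) {T : Over (Spec (CommRingCat.of K))} (x : T ⟶ X), Fac (f m) x ↔ Fac (f (m + 1)) x ∧ x ^ (p ^ m) = 1)
    (i : ∀ m, M m ⟶ F m) (_ : ∀ m, IsClSub (i m))
    (_ : ∀ (m : ℕ) {T : Over (Spec (CommRingCat.of K))} (x : T ⟶ X),
      Fac (i m ≫ f m) x ↔ Fac (i (m + 1) ≫ f (m + 1)) x ∧ x ^ (p ^ m) = 1)
    (b r : ℕ) (_ : ∀ m s, (W m).hom.finrank s = p ^ (m * (2 * (b + r))))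
    (_ : ∀ m s, (F m).hom.finrank s = p ^ (m * (2 * b + r)))
    (_ : ∀ m s, (M m).hom.finrank s = p ^ (m * r))
    (e : ∀ m, TPairing X (p ^ m))
    (_ : ∀ (m : ℕ) {T : Over (Spec (CommRingCat.of K))} (x y : T ⟶ X) (hx : x ^ (p ^ m) = 1)
      (hx' : x ^ (p ^ (m + 1)) = 1) (hy : y ^ (p ^ (m + 1)) = 1) (hy' : (y ^ p) ^ (p ^ m) = 1),
      (e (m + 1)).e x y hx' hy = (e m).e x (y ^ p) hx hy')
    (_ : ∀ (m : ℕ) {T : Over (Spec (CommRingCat.of K))} (x y : T ⟶ X) (hx : x ^ (p ^ m) = 1) (hy : y ^ (p ^ m) = 1),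
      (e m).e x y hx hy * (e m).e y x hy hx = 1)
    (Kl : Over (Spec (CommRingCat.of K))) [GrpObj Kl] (j : Kl ⟶ X) (_ : IsClSub j) (_ : IsFinite Kl.hom)
    (_ : ∀ (m : ℕ) {T : Over (Spec (CommRingCat.of K))} (x : T ⟶ X) (hx : x ^ (p ^ m) = 1),
      Fac j x ↔ ∀ {T' : Over (Spec (CommRingCat.of K))} (g : T' ⟶ T) (y : T' ⟶ X) (hgx : (g ≫ x) ^ (p ^ m) = 1)
        (hy : y ^ (p ^ m) = 1), (e m).e (g ≫ x) y hgx hy = 1)
    (_ : ∀ (m : ℕ) {T : Over (Spec (CommRingCat.of K))} (x : T ⟶ M m) (y : T ⟶ F m)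
      (hx : (x ≫ i m ≫ f m) ^ (p ^ m) = 1) (hy : (y ≫ f m) ^ (p ^ m) = 1),
      (e m).e (x ≫ i m ≫ f m) (y ≫ f m) hx hy = 1)
    (m : ℕ) (T : Over (Spec (CommRingCat.of K))) (x : T ⟶ F m)
    (_ : ∀ {T' : Over (Spec (CommRingCat.of K))} (g : T' ⟶ T) (y : T' ⟶ F m)
      (hx : (g ≫ x ≫ f m) ^ (p ^ m) = 1) (hy : (y ≫ f m) ^ (p ^ m) = 1),
      (e m).e (g ≫ x ≫ f m) (y ≫ f m) hx hy = 1),
    ∃ (T' : Over (Spec (CommRingCat.of K))) (g : T' ⟶ T) (m' : ℕ) (v : T' ⟶ M m'),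
      Surjective g.left ∧ Flat g.left ∧ QuasiCompact g.left ∧
        Fac j ((g ≫ x ≫ f m) * (v ≫ i m' ≫ f m')⁻¹)

/-! ## The closed fibre -/

/-- `T` is `𝔾_m ^ r`, through the universal characters `χ`. -/
structure IsGmPow {S : Scheme.{u}} (r : ℕ) (T : Over S) [GrpObj T] (χ : Fin r → U T) : Prop where
  mul : ∀ {T' : Over S} (x y : T' ⟶ T) (j : Fin r), ures (x * y) (χ j) = ures x (χ j) * ures y (χ j)
  bij : ∀ {T' : Over S} (v : Fin r → U T'), ∃! x : T' ⟶ T, ∀ j, ures x (χ j) = v j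

/-- `1 ⟶ T = 𝔾_m^r ⟶ G ⟶ B ⟶ 1` over a field, `B` an abelian variety. -/
structure IsSemiAb {k : Type u} [Field k] {G T B : Over (Spec (CommRingCat.of k))} [GrpObj G] [GrpObj T] [GrpObj B]
    (r : ℕ) (χ : Fin r → U T) (τ : T ⟶ G) (π : G ⟶ B) : Prop where
  sub : IsClSub τ
  mon : IsMonHom π
  gm : IsGmPow r T χ
  ker : ∀ {T' : Over (Spec (CommRingCat.of k))} (x : T' ⟶ G), Fac τ x ↔ x ≫ π = 1
  flat : Flat π.left
  surj : Surjective π.left
  proper : IsProper B.hom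
  gi : GeometricallyIntegral B.hom

/-- (3.0) A connected commutative group without `𝔾_a` over an algebraically closed field is semi-abelian. -/
def NodeSemiAb : Prop :=
  ∀ (k : Type u) [Field k] [IsAlgClosed k] (G : Over (Spec (CommRingCat.of k))) [GrpObj G] [IsCommMonObj G]
    (_ : Smooth G.hom) (_ : IsSeparated G.hom) (_ : QuasiCompact G.hom) (_ : ConnectedSpace G.left)
    (_ : SGA7.FibresUnipotentRankZero G),
    ∃ (r : ℕ) (T B : Over (Spec (CommRingCat.of k))) (_ : GrpObj T) (_ : GrpObj B) (χ : Fin r → U T)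
      (τ : T ⟶ G) (π : G ⟶ B), IsSemiAb r χ τ π

/-- (3.1) Invertible modules on a semi-abelian variety come from the abelian quotient. -/
def NodePic : Prop :=
  ∀ (k : Type u) [Field k] [IsAlgClosed k] (G T B : Over (Spec (CommRingCat.of k))) [GrpObj G] [IsCommMonObj G]
    [GrpObj T] [GrpObj B] (_ : Smooth G.hom) (_ : IsSeparated G.hom) (_ : QuasiCompact G.hom) (_ : ConnectedSpace G.left)
    (r : ℕ) (χ : Fin r → U T) (τ : T ⟶ G) (π : G ⟶ B) (_ : IsSemiAb r χ τ π)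
    (L : G.left.Modules) (_ : PicF.IsInvertible L),
    ∃ M : B.left.Modules, PicF.IsInvertible M ∧ Nonempty ((Scheme.Modules.pullback π.left).obj M ≅ L)

/-- (3.2) Invertible functions on `G × G` which are `1` on both axes. -/
def NodeUnits : Prop :=
  ∀ (k : Type u) [Field k] [IsAlgClosed k] (G : Over (Spec (CommRingCat.of k))) [GrpObj G]
    (_ : Smooth G.hom) (_ : IsSeparated G.hom) (_ : QuasiCompact G.hom) (_ : ConnectedSpace G.left)
    (v : U (G ⊗ G)), ures (lift 1 (𝟙 G)) v = 1 → ures (lift (𝟙 G) 1) v = 1 → v = 1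

/-! ## Node (1): FINITE PARTS (helper267) -/

/-- FIN: finite parts and multiplicative parts, with their ranks; `κ` an algebraically closed extension of the residue
field, `A_κ` an extension of the abelian variety `B` by `T = 𝔾_m^r`. -/
def NodeFin : Prop :=
  ∀ (R : Type u) [CommRing R] [IsDomain R] [IsNoetherianRing R] [IsIntegrallyClosed R] [HenselianLocalRing R]
    [IsSepClosed (IsLocalRing.ResidueField R)]
    (p : ℕ) (_ : p.Prime) (_ : (p : R) ∈ IsLocalRing.maximalIdeal R)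
    (A : Over (Spec (CommRingCat.of R))) [GrpObj A] [IsCommMonObj A] (_ : Smooth A.hom) (_ : IsSeparated A.hom)
    (_ : QuasiCompact A.hom) (_ : GeometricallyConnected A.hom) (_ : SGA7.FibresUnipotentRankZero A)
    (_ : IsProper (Red.bc (gen R) A).hom)
    (κ : Type u) [Field κ] [IsAlgClosed κ] (φ : R →+* κ) (_ : RingHom.ker φ = IsLocalRing.maximalIdeal R)
    (T B : Over (Spec (CommRingCat.of κ))) [GrpObj T] [GrpObj B] (r : ℕ) (χ₀ : Fin r → U T)
    (τ : T ⟶ Red.bc (Spec.map (CommRingCat.ofHom φ)) A) (π : Red.bc (Spec.map (CommRingCat.ofHom φ)) A ⟶ B)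
    (_ : IsSemiAb r χ₀ τ π),
    ∃ (F M : ℕ → Over (Spec (CommRingCat.of R))) (_ : ∀ m, GrpObj (F m)) (_ : ∀ m, GrpObj (M m))
      (f : ∀ m, F m ⟶ A) (i : ∀ m, M m ⟶ F m) (χ : ∀ m, Fin r → U (M m)) (t : ∀ m, M m ⟶ M (m + 1)) (b : ℕ)
      (τ' : ∀ m, Red.bc (Spec.map (CommRingCat.ofHom φ)) (M m) ⟶ T),
      (∀ m, IsFinPart R A (p ^ m) (f m)) ∧ (∀ m, IsClSub (i m)) ∧ (∀ m, IsMu (p ^ m) r (M m) (χ m)) ∧
      (∀ m, t m ≫ i (m + 1) ≫ f (m + 1) = i m ≫ f m) ∧ (∀ m j, ures (t m) (χ (m + 1) j) = χ m j) ∧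
      (∀ m s, (F m).hom.finrank s = p ^ (m * (2 * b + r))) ∧
      (∀ m s, (((𝟙 (Red.bc (gen R) A) : Red.bc (gen R) A ⟶ Red.bc (gen R) A) ^ (p ^ m)).left).finrank s =
        p ^ (m * (2 * (b + r)))) ∧
      (∀ m, τ' m ≫ τ = (Over.pullback (Spec.map (CommRingCat.ofHom φ))).map (i m ≫ f m)) ∧
      (∀ (m : ℕ) {T' : Over (Spec (CommRingCat.of κ))} (x : T' ⟶ Red.bc (Spec.map (CommRingCat.ofHom φ)) A),
        Fac τ x → x ^ (p ^ m) = 1 → Fac ((Over.pullback (Spec.map (CommRingCat.ofHom φ))).map (i m ≫ f m)) x)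

end K270.MB
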