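import Groth.Agent.GrpSch.K270.MB.Closed

/-!
# The plan of S14306: exact statements of the remaining nodes

Nothing is proved here.
-/

set_option autoImplicit false
set_option linter.unusedVariables false
universe u
open CategoryTheory CategoryTheory.Limits MonoidalCategory CartesianMonoidalCategory MonObj AlgebraicGeometry
open K999.Cart K999.EDesc K999.Scal Groth.Agent.Grpsch.PicGrp K529.KL

noncomputable section

namespace K270.MB

/-- `Spec` of a ring homomorphism. -/
abbrev sp {R R' : Type u} [CommRing R] [CommRing R'] (φ : R →+* R') :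
    Spec (CommRingCat.of R') ⟶ Spec (CommRingCat.of R) := Spec.map (CommRingCat.ofHom φ)

/-- (RAD) The radical of a pairing on a finite flat group is a closed subgroup. -/
def NodeRad : Prop :=
  ∀ (R : Type u) [CommRing R] [IsLocalRing R] (F : Over (Spec (CommRingCat.of R))) [GrpObj F] [IsCommMonObj F]
    (_ : IsFinite F.hom) (_ : Flat F.hom) (_ : LocallyOfFinitePresentation F.hom) (e : Pairing F F),
    ∃ (D : Over (Spec (CommRingCat.of R))) (_ : GrpObj D) (d : D ⟶ F), IsClSub d ∧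
      ∀ {T : Over (Spec (CommRingCat.of R))} (x : T ⟶ F),
        Fac d x ↔ ∀ {T' : Over (Spec (CommRingCat.of R))} (g : T' ⟶ T) (y : T' ⟶ F), e.e (g ≫ x) y = 1

/-- (DVRdom) A dominating henselian discrete valuation ring with algebraically closed residue field. -/
def NodeDvrDom : Prop :=
  ∀ (R : Type u) [CommRing R] [IsDomain R] [IsLocalRing R] [IsNoetherianRing R],
    ∃ (V : Type u) (_ : CommRing V) (_ : IsDomain V) (_ : IsDiscreteValuationRing V) (_ : HenselianLocalRing V)
      (_ : IsAlgClosed (IsLocalRing.ResidueField V)) (φ : R →+* V), Function.Injective φ ∧ IsLocalHom φ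

/-- (3.3) Finiteness of `K(M)`: the `ℓ`-adic count over a henselian discrete valuation ring.  `e m` is the pairing on
`A[ℓ^m]` over `V`; its generic radical is contained in the finite group `Kl`; on the closed fibre `e` kills `π⁻¹ K(M)`. -/
def NodeKMFin : Prop :=
  ∀ (V K : Type u) [CommRing V] [IsDomain V] [IsDiscreteValuationRing V] [HenselianLocalRing V] [Field K] [Algebra V K]
    [IsFractionRing V K] [IsAlgClosed (IsLocalRing.ResidueField V)]
    (A : Over (Spec (CommRingCat.of V))) [GrpObj A] [IsCommMonObj A] (_ : Smooth A.hom) (_ : IsSeparated A.hom)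
    (_ : QuasiCompact A.hom) (_ : GeometricallyConnected A.hom) (_ : SGA7.FibresUnipotentRankZero A)
    (_ : IsProper (Red.bc (sp (algebraMap V K)) A).hom)
    (T B : Over (Spec (CommRingCat.of (IsLocalRing.ResidueField V)))) [GrpObj T] [GrpObj B] (r : ℕ) (χ : Fin r → U T)
    (τ : T ⟶ Red.bc (sp (IsLocalRing.residue V)) A) (π : Red.bc (sp (IsLocalRing.residue V)) A ⟶ B)
    (_ : IsSemiAb r χ τ π)
    (ℓ : ℕ) (_ : ℓ.Prime) (_ : (ℓ : IsLocalRing.ResidueField V) ≠ 0)
    (M : B.left.Modules) (_ : PicF.IsInvertible M)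
    (e : ∀ m, TPairing A (ℓ ^ m))
    (_ : ∀ (m : ℕ) {T : Over (Spec (CommRingCat.of V))} (x y : T ⟶ A) (hx : x ^ (ℓ ^ m) = 1) (hy : y ^ (ℓ ^ m) = 1),
      (e m).e x y hx hy * (e m).e y x hy hx = 1)
    (Kl : Over (Spec (CommRingCat.of K))) [GrpObj Kl] (j : Kl ⟶ Red.bc (sp (algebraMap V K)) A) (_ : IsClSub j)
    (_ : IsFinite Kl.hom)
    (_ : ∀ (m : ℕ) {T : Over (Spec (CommRingCat.of K))} (x : T ⟶ Red.bc (sp (algebraMap V K)) A)
      (hx : x ^ (ℓ ^ m) = 1),
      (∀ {T' : Over (Spec (CommRingCat.of K))} (g : T' ⟶ T) (y : T' ⟶ Red.bc (sp (algebraMap V K)) A)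
        (hy : y ^ (ℓ ^ m) = 1) (hgx' : dn (sp (algebraMap V K)) (g ≫ x) ^ (ℓ ^ m) = 1)
        (hy' : dn (sp (algebraMap V K)) y ^ (ℓ ^ m) = 1),
        (e m).e (dn (sp (algebraMap V K)) (g ≫ x)) (dn (sp (algebraMap V K)) y) hgx' hy' = 1) → Fac j x)
    (_ : ∀ (m : ℕ) {T : Over (Spec (CommRingCat.of (IsLocalRing.ResidueField V)))}
      (x y : T ⟶ Red.bc (sp (IsLocalRing.residue V)) A) (hx : x ^ (ℓ ^ m) = 1) (hy : y ^ (ℓ ^ m) = 1)
      (hx' : dn (sp (IsLocalRing.residue V)) x ^ (ℓ ^ m) = 1) (hy' : dn (sp (IsLocalRing.residue V)) y ^ (ℓ ^ m) = 1),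
      ThetaGrp.IsMumfordTriv B M (x ≫ π) →
        (e m).e (dn (sp (IsLocalRing.residue V)) x) (dn (sp (IsLocalRing.residue V)) y) hx' hy' = 1),
    ∃ n : ℕ, 0 < n ∧ ∀ {T : Over (Spec (CommRingCat.of (IsLocalRing.ResidueField V)))} (z : T ⟶ B),
      ThetaGrp.IsMumfordTriv B M z → z ^ n = 1

/-- (PAIR) The pairing over a normal local domain: it extends from the generic fibre. -/
def NodePair : Prop :=
  ∀ (R : Type u) [CommRing R] [IsDomain R] [IsNoetherianRing R] [IsIntegrallyClosed R] [IsLocalRing R]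
    (A : Over (Spec (CommRingCat.of R))) [GrpObj A] [IsCommMonObj A] (_ : Smooth A.hom) (_ : IsSeparated A.hom)
    (_ : QuasiCompact A.hom) (_ : GeometricallyConnected A.hom)
    (_ : ConstU (Red.bc (gen R) A)) (_ : PushU (Red.bc (gen R) A))
    (P : (Red.bc (gen R) A ⊗ Red.bc (gen R) A).left.Modules) (hP : PicF.IsInvertible P)
    (D : Bir (GTor.ofMod (Red.bc (gen R) A ⊗ Red.bc (gen R) A) P)) (N : ℕ) (_ : 0 < N)
    (_ : pl (powL (Red.bc (gen R) A) N) (mk P hP) = pl (powR (Red.bc (gen R) A) N) (mk P hP))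
    (θ : Theta D N)
    (F : Over (Spec (CommRingCat.of R))) [GrpObj F] (f : F ⟶ A) (_ : IsFinPart R A N f),
    ∃ e : Pairing F F, ∀ {T : Over (Spec (CommRingCat.of (FractionRing R)))} (x y : T ⟶ Red.bc (gen R) F)
      (hx : (x ≫ (Over.pullback (gen R)).map f) ^ N = 1) (hy : (y ≫ (Over.pullback (gen R)).map f) ^ N = 1),
      θ.e (x ≫ (Over.pullback (gen R)).map f) (y ≫ (Over.pullback (gen R)).map f) hx hy =
        e.e (T := (Over.map (gen R)).obj T) (dn (gen R) x) (dn (gen R) y)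

/-- (DVR) The datum over a discrete valuation ring. -/
def NodeDvrDatum : Prop :=
  ∀ (V K : Type u) [CommRing V] [IsDomain V] [IsDiscreteValuationRing V] [Field K] [Algebra V K] [IsFractionRing V K]
    (A : Over (Spec (CommRingCat.of V))) [GrpObj A] [IsCommMonObj A] (_ : Smooth A.hom) (_ : IsSeparated A.hom)
    (_ : QuasiCompact A.hom) (_ : GeometricallyConnected A.hom)
    (_ : ConstU (Red.bc (sp (algebraMap V K)) A))
    (P : (Red.bc (sp (algebraMap V K)) A ⊗ Red.bc (sp (algebraMap V K)) A).left.Modules) (hP : PicF.IsInvertible P)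
    (D : Bir (GTor.ofMod (Red.bc (sp (algebraMap V K)) A ⊗ Red.bc (sp (algebraMap V K)) A) P))
    (_ : ∀ N : ℕ, pl (powL (Red.bc (sp (algebraMap V K)) A) N) (mk P hP) =
      pl (powR (Red.bc (sp (algebraMap V K)) A) N) (mk P hP)),
    ∃ (P' : (A ⊗ A).left.Modules) (hP' : PicF.IsInvertible P')
      (κ : ob (Red.bc (sp (algebraMap V K)) A ⊗ Red.bc (sp (algebraMap V K)) A).left P ⟶ ob (A ⊗ A).left P')
      (D' : Bir (GTor.ofMod (A ⊗ A) P')), IsCart κ ∧ κ.base = (cc (sp (algebraMap V K)) A).left ∧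
        ∀ N : ℕ, Nonempty (ATheta D' N)

/-- (DVR, bis) Extension of invertible modules and uniqueness, in the Picard group. -/
def NodePicDvr : Prop :=
  ∀ (V K : Type u) [CommRing V] [IsDomain V] [IsDiscreteValuationRing V] [Field K] [Algebra V K] [IsFractionRing V K]
    (X : Over (Spec (CommRingCat.of V))) (_ : Smooth X.hom) (_ : IsSeparated X.hom)
    (_ : QuasiCompact X.hom) (_ : GeometricallyIrreducible X.hom) (_ : Surjective X.hom),
    Function.Bijective (pull (pullback.fst X.hom (sp (algebraMap V K))))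

end K270.MB
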