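import Groth.Agent.GrpSch.K270.MB.Lam

/-!
# Commutative squares of bases

`c ≫ g = k ≫ v` for `g : H ⟶ S`, `v : S₁ ⟶ S`, `k : H' ⟶ S₁`, `c : H' ⟶ H`.  For `A` over `S`, the map
`qq : (A_{S₁})_{H'} ⟶ A_H` over `c`.
-/

set_option autoImplicit false
universe u
open CategoryTheory CategoryTheory.Limits MonoidalCategory CartesianMonoidalCategory MonObj AlgebraicGeometry
open K999.Cart K999.EDesc K999.Scal Groth.Agent.Grpsch.PicGrp K529.KL

noncomputable section

namespace K270.MB

section Nat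

variable {S S' : Scheme.{u}} (k : S' ⟶ S)

theorem upp_comp {X : Over S} {T T' : Over S'} (g : T' ⟶ T) (x : (Over.map k).obj T ⟶ X) :
    upp k ((Over.map k).map g ≫ x) = g ≫ upp k x :=
  Adjunction.homEquiv_naturality_left _ _ _

theorem upp_map {X Y : Over S} {T : Over S'} (x : (Over.map k).obj T ⟶ X) (f : X ⟶ Y) :
    upp k (x ≫ f) = upp k x ≫ (Over.pullback k).map f :=
  Adjunction.homEquiv_naturality_right _ _ _

theorem upp_one {X : Over S} [GrpObj X] {T : Over S'} : upp k (1 : (Over.map k).obj T ⟶ X) = 1 := by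
  apply dn_inj k
  rw [dn_upp, dn_one]

theorem upp_pow {X : Over S} [GrpObj X] {T : Over S'} (x : (Over.map k).obj T ⟶ X) (n : ℕ) :
    upp k (x ^ n) = upp k x ^ n := by
  apply dn_inj k
  rw [dn_upp, dn_pow, dn_upp]

theorem upp_inj {X : Over S} {T : Over S'} {x y : (Over.map k).obj T ⟶ X} (h : upp k x = upp k y) : x = y := by
  rw [← dn_upp k x, h, dn_upp]

/-- Changing the structure morphism along an equality. -/
abbrev cst {Z : Scheme.{u}} {a b : Z ⟶ S} (h : a = b) : Over.mk a ⟶ Over.mk b :=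
  Over.homMk (𝟙 Z) (by rw [h]; exact Category.id_comp _)

theorem ures_cst {Z : Scheme.{u}} {a b : Z ⟶ S} (h : a = b) (u : U (Over.mk b)) : ures (cst h) u = u := by
  apply Units.ext
  change (Scheme.Hom.appTop (𝟙 Z)) u.val = _
  rw [Scheme.Hom.id_appTop]
  rfl

end Nat

section Sq

variable {S S₁ H H' : Scheme.{u}} {g : H ⟶ S} {v : S₁ ⟶ S} {k : H' ⟶ S₁} {c : H' ⟶ H} (hc : c ≫ g = k ≫ v)

include hc in
theorem tr_aux (T : Over H') : (T.hom ≫ c) ≫ g = (T.hom ≫ k) ≫ v := by
  rw [Category.assoc, hc, Category.assoc]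

/-- The comparison of the two structures. -/
abbrev tr (T : Over H') : (Over.map g).obj ((Over.map c).obj T) ⟶ (Over.map v).obj ((Over.map k).obj T) :=
  cst (tr_aux hc T)

theorem tr_nat {T T' : Over H'} (f : T' ⟶ T) :
    (Over.map g).map ((Over.map c).map f) ≫ tr hc T = tr hc T' ≫ (Over.map v).map ((Over.map k).map f) := by
  apply Over.OverMorphism.ext
  exact (Category.comp_id f.left).trans (Category.id_comp f.left).symm

theorem ures_tr (T : Over H') (u : U ((Over.map v).obj ((Over.map k).obj T))) : ures (tr hc T) u = u :=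
  ures_cst _ u

variable (A : Over S)

/-- The map `(A_{S₁})_{H'} ⟶ A_H`. -/
def qq : (Over.map c).obj (Red.bc k (Red.bc v A)) ⟶ Red.bc g A :=
  upp g (tr hc _ ≫ dn v (dn k (𝟙 _)))

variable {A}

theorem dq_qq {T : Over H'} (x : T ⟶ Red.bc k (Red.bc v A)) :
    dq c (qq hc A) x = upp g (tr hc T ≫ dn v (dn k x)) := by
  rw [dq, qq, ← upp_comp, ← Category.assoc, tr_nat, Category.assoc, ← dn_comp, ← dn_comp, Category.comp_id]

theorem dn_dq_qq {T : Over H'} (x : T ⟶ Red.bc k (Red.bc v A)) :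
    dn g (dq c (qq hc A) x) = tr hc T ≫ dn v (dn k x) := by
  rw [dq_qq, dn_upp]

theorem qq_mul [GrpObj A] {T : Over H'} (a b : T ⟶ Red.bc k (Red.bc v A)) :
    dq c (qq hc A) (a * b) = dq c (qq hc A) a * dq c (qq hc A) b := by
  rw [dq_qq, dq_qq, dq_qq, dn_mul, dn_mul, MonObj.comp_mul, upp_mul]

theorem dq_qq_map {A F : Over S} (f : F ⟶ A) {T : Over H'} (x : T ⟶ Red.bc k (Red.bc v F)) :
    dq c (qq hc A) (x ≫ (Over.pullback k).map ((Over.pullback v).map f)) =
      dq c (qq hc F) x ≫ (Over.pullback g).map f := by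
  rw [dq_qq, dq_qq, ← upp_map, dn_map, dn_map, Category.assoc]

variable (A) in
theorem isPullback_qq : IsPullback (qq hc A).left (Red.bc k (Red.bc v A)).hom (Red.bc g A).hom c := by
  have h1 : IsPullback (pullback.fst A.hom v) (Red.bc v A).hom A.hom v := IsPullback.of_hasPullback A.hom v
  have h2 : IsPullback (pullback.fst (Red.bc v A).hom k) (Red.bc k (Red.bc v A)).hom (Red.bc v A).hom k :=
    IsPullback.of_hasPullback (Red.bc v A).hom k
  have h3 := h2.paste_horiz h1
  rw [← hc] at h3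
  have h4 : IsPullback (pullback.fst A.hom g) (Red.bc g A).hom A.hom g := IsPullback.of_hasPullback A.hom g
  have e1 : (qq hc A).left ≫ pullback.fst A.hom g = pullback.fst (Red.bc v A).hom k ≫ pullback.fst A.hom v := by
    have h5 := dn_upp g (tr hc (Red.bc k (Red.bc v A)) ≫ dn v (dn k (𝟙 _)))
    have h6 := congrArg (fun z => z.left) h5
    change (qq hc A).left ≫ pullback.fst A.hom g = 𝟙 _ ≫ (dn v (dn k (𝟙 (Red.bc k (Red.bc v A))))).left at h6
    rw [h6, Category.id_comp, dn_left, dn_left]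
    exact congrArg (· ≫ _) (Category.id_comp _)
  have e2 : (qq hc A).left ≫ (Red.bc g A).hom = (Red.bc k (Red.bc v A)).hom ≫ c := Over.w (qq hc A)
  rw [← e1] at h3
  exact IsPullback.of_right h3 e2 h4

end Sq

end K270.MB
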