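import Groth.Agent.GrpSch.K270.MB.Gen
import Groth.Agent.GrpSch.K270.MB.Dom
import Groth.Agent.GrpSch.K388.DvrDatum
import Groth.Agent.Sga7.H738.S4057Comm
import Groth.Agent.Sga7.H738.RankZeroBc
import Groth.Agent.Jac.K914.Curve

/-!
# Semi-stable groups with connected fibres: base change
-/

set_option autoImplicit false
universe u
open CategoryTheory CategoryTheory.Limits MonoidalCategory CartesianMonoidalCategory MonObj AlgebraicGeometry
open K999.Cart K999.EDesc K999.Scal Groth.Agent.Grpsch.PicGrp K529.KL

noncomputable section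

namespace K270.MB

/-- Semi-stable with connected fibres. -/
structure GoodA {S : Scheme.{u}} (A : Over S) [GrpObj A] : Prop where
  comm : IsCommMonObj A
  smooth : Smooth A.hom
  sep : IsSeparated A.hom
  qc : QuasiCompact A.hom
  conn : GeometricallyConnected A.hom
  rank : SGA7.FibresUnipotentRankZero A

theorem GoodA.bc {S S' : Scheme.{u}} {A : Over S} [GrpObj A] (h : GoodA A) (f : S' ⟶ S) : GoodA (Red.bc f A) := by
  obtain ⟨h1, h2, h3, h4, h5, h6⟩ := h
  have e1 : Smooth (Red.bc f A).hom := inferInstanceAs (Smooth (pullback.snd A.hom f))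
  have e2 : IsSeparated (Red.bc f A).hom := inferInstanceAs (IsSeparated (pullback.snd A.hom f))
  have e3 : QuasiCompact (Red.bc f A).hom := inferInstanceAs (QuasiCompact (pullback.snd A.hom f))
  have e4 : GeometricallyConnected (Red.bc f A).hom := inferInstanceAs (GeometricallyConnected (pullback.snd A.hom f))
  exact ⟨inferInstance, e1, e2, e3, e4, Groth.Agent.Sga7.H738.RankZeroBc.fibresUnipotentRankZero_bc
    Groth.Agent.Sga7.H738.S4057Comm.l2 f A h6⟩

theorem GoodA.gi {k : Type u} [Field k] {A : Over (Spec (CommRingCat.of k))} [GrpObj A] (h : GoodA A) :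
    GeometricallyIntegral A.hom := by
  have h2 := h.smooth
  have h5 := h.conn
  exact K914.Curve.geometricallyIntegral A.hom

theorem GoodA.connectedSpace {k : Type u} [Field k] {A : Over (Spec (CommRingCat.of k))} [GrpObj A] (h : GoodA A) :
    ConnectedSpace A.left := by
  have h1 := h.gi
  have hsub : Subsingleton (Spec (CommRingCat.of k)) := inferInstanceAs (Subsingleton (PrimeSpectrum k))
  have : IsIntegral A.left := GeometricallyIntegral.isIntegral_of_subsingleton A.hom
  infer_instance

/-- `Spec` of a ring homomorphism (local name). -/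
abbrev spp {R R' : Type u} [CommRing R] [CommRing R'] (φ : R →+* R') :
    Spec (CommRingCat.of R') ⟶ Spec (CommRingCat.of R) := Spec.map (CommRingCat.ofHom φ)

theorem spp_comp {R R' R'' : Type u} [CommRing R] [CommRing R'] [CommRing R''] (φ : R →+* R') (ψ : R' →+* R'') :
    spp ψ ≫ spp φ = spp (ψ.comp φ) := by
  rw [spp, spp, spp, ← Spec.map_comp, ← CommRingCat.ofHom_comp]

/-- The map of the fraction fields. -/
def frm {R V : Type u} [CommRing R] [IsDomain R] [CommRing V] [IsDomain V] (φ : R →+* V)
    (hφ : Function.Injective φ) : FractionRing R →+* FractionRing V :=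
  IsLocalization.map (M := nonZeroDivisors R) (T := nonZeroDivisors V) (FractionRing V) φ
    (nonZeroDivisors_le_comap_nonZeroDivisors_of_injective φ hφ)

theorem frm_comp {R V : Type u} [CommRing R] [IsDomain R] [CommRing V] [IsDomain V] (φ : R →+* V)
    (hφ : Function.Injective φ) :
    (frm φ hφ).comp (algebraMap R (FractionRing R)) = (algebraMap V (FractionRing V)).comp φ :=
  IsLocalization.map_comp _

theorem frm_sq {R V : Type u} [CommRing R] [IsDomain R] [CommRing V] [IsDomain V] (φ : R →+* V)
    (hφ : Function.Injective φ) : spp (frm φ hφ) ≫ gen R = spp (algebraMap V (FractionRing V)) ≫ spp φ := by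
  change spp _ ≫ spp _ = _
  rw [spp_comp, spp_comp, frm_comp]

/-- `pr2 = cc`. -/
theorem pr2_eq {S S' : Scheme.{u}} (k : S' ⟶ S) (A : Over S) : K388.ExtGeom.pr2 k A A = (cc k A).left := by
  apply (K388.ExtGeom.isPullback_tensor A A).hom_ext
  · rw [K388.ExtGeom.pr2_fst, ← Over.comp_left, lift_fst]
    rfl
  · rw [K388.ExtGeom.pr2_snd, ← Over.comp_left, lift_snd]
    rfl

/-- Flatness test: units on a flat `V`-scheme are determined by their restriction to the generic fibre. -/
theorem ures_gen_inj {V K : Type u} [CommRing V] [IsDomain V] [IsDiscreteValuationRing V] [Field K] [Algebra V K]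
    [IsFractionRing V K] (W : Over (Spec (CommRingCat.of V))) (hW : Flat W.hom) (a b : U W)
    (h : ures (dn (spp (algebraMap V K)) (𝟙 (Red.bc (spp (algebraMap V K)) W))) a = ures (dn (spp (algebraMap V K)) (𝟙 _)) b) :
    a = b := by
  apply Units.ext
  apply K388.ExtUnit.appTop_injective W.hom (IsPullback.of_hasPullback W.hom (spp (algebraMap V K)))
  have h1 := congrArg Units.val h
  have e : (dn (spp (algebraMap V K)) (𝟙 (Red.bc (spp (algebraMap V K)) W))).left =
      pullback.fst W.hom (spp (algebraMap V K)) := by
    rw [dn_left]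
    exact Category.id_comp _
  change (Scheme.Hom.appTop (dn (spp (algebraMap V K)) (𝟙 (Red.bc (spp (algebraMap V K)) W))).left) a.val =
    (Scheme.Hom.appTop (dn (spp (algebraMap V K)) (𝟙 (Red.bc (spp (algebraMap V K)) W))).left) b.val at h1
  rwa [e] at h1

/-- A cartesian arrow over `cc` from a Picard class. -/
theorem exists_lift_class {V : Type u} [CommRing V] [IsDomain V] [IsDiscreteValuationRing V]
    {A : Over (Spec (CommRingCat.of V))} [GrpObj A] (hA : GoodA A)
    {L : (Red.bc (spp (algebraMap V (FractionRing V))) A).left.Modules} (hL : PicF.IsInvertible L) :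
    ∃ c : Pic A.left, pull (pullback.fst A.hom (spp (algebraMap V (FractionRing V)))) c = mk L hL := by
  have := hA.smooth
  obtain ⟨LV, κ, hLV, hκ, hb⟩ := K388.ExtCart.exists_obj A.hom
    (IsPullback.of_hasPullback A.hom (spp (algebraMap V (FractionRing V)))) L hL
  exact ⟨mk LV hLV, K388.DvrDatum.mk_of_cart hL hLV hκ hb⟩

theorem pull_cc_injective {V : Type u} [CommRing V] [IsDomain V] [IsDiscreteValuationRing V]
    {A : Over (Spec (CommRingCat.of V))} [GrpObj A] (hA : GoodA A) :
    Function.Injective (pull (cc (spp (algebraMap V (FractionRing V))) A).left) := by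
  have h1 := hA.smooth
  have h2 := hA.conn
  have h3 : GeometricallyConnected (A ⊗ A).hom := K388.ExtGeom.geometricallyConnected_tensor A A
  rw [← pr2_eq]
  exact K388.DvrDatum.pull_injective (K := FractionRing V) (A ⊗ A).hom
    (K388.ExtGeom.isPullback_pr2 (spp (algebraMap V (FractionRing V))) A A)
    (K388.ExtGeom.isIrreducible_fibre _ _)

end K270.MB
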