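import Groth.Agent.GrpSch.K267.MultPart

/-!
# The rank of `μ_N^r`
-/

set_option autoImplicit false
universe u
open CategoryTheory CategoryTheory.Limits MonoidalCategory CartesianMonoidalCategory MonObj AlgebraicGeometry
open K267.MuSch

noncomputable section

namespace K270.MB

theorem exists_iso_mu {S : Scheme.{u}} {N r : ℕ} {M M' : Over S} [GrpObj M] [GrpObj M'] {χ : Fin r → U M}
    {χ' : Fin r → U M'} (h : IsMu N r M χ) (h' : IsMu N r M' χ') : Nonempty (M ≅ M') := by
  obtain ⟨u, hu, -⟩ := h'.bij χ h.pow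
  obtain ⟨v, hv, -⟩ := h.bij χ' h'.pow
  refine ⟨⟨u, v, ?_, ?_⟩⟩
  · apply mu_ext h
    intro j
    rw [ures_comp, hv, hu, ures_id]
  · apply mu_ext h'
    intro j
    rw [ures_comp, hu, hv, ures_id]

theorem finrank_mu (R : Type u) [CommRing R] [Nontrivial R] (N r : ℕ) [NeZero N] :
    Flat (Mu R N r).hom ∧ ∀ s, (Mu R N r).hom.finrank s = N ^ r := by
  have : Module.Free R (MonoidAlgebra R (MG N r)) := Module.Free.of_basis (MonoidAlgebra.basis (MG N r) R)
  have h1 : Module.Finite R (MonoidAlgebra R (MG N r)) := Module.Finite.of_basis (MonoidAlgebra.basis (MG N r) R)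
  refine ⟨?_, fun s => ?_⟩
  · have h : Flat (Spec.map (CommRingCat.ofHom (algebraMap R (MonoidAlgebra R (MG N r))))) := by
      rw [Flat.SpecMap_iff]
      exact (RingHom.flat_algebraMap_iff (R := R) (S := MonoidAlgebra R (MG N r))).mpr inferInstance
    exact h
  · have h6 := Scheme.Hom.finrank_SpecMap_algebraMap R (MonoidAlgebra R (MG N r)) s
    rw [Module.rankAtStalk_eq_finrank_of_free] at h6
    refine h6.trans ?_
    change Module.finrank R (MonoidAlgebra R (MG N r)) = _
    rw [Module.finrank_eq_nat_card_basis (MonoidAlgebra.basis (MG N r) R)]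
    simp [MG, Nat.card_eq_fintype_card, ZMod.card]

theorem rank_mu {R : Type u} [CommRing R] [Nontrivial R] {M : Over (Spec (CommRingCat.of R))} [GrpObj M] {N r : ℕ}
    (hN : 0 < N) {χ : Fin r → U M} (h : IsMu N r M χ) :
    IsFinite M.hom ∧ Flat M.hom ∧ ∀ s, M.hom.finrank s = N ^ r := by
  have : NeZero N := ⟨hN.ne'⟩
  obtain ⟨i⟩ := exists_iso_mu h (isMu (R := R) (N := N) (r := r))
  have i1 : IsIso i.hom.left := inferInstanceAs (IsIso ((Over.forget _).map i.hom))
  have hw : i.hom.left ≫ (Mu R N r).hom = M.hom := Over.w i.hom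
  have h1 := K267.MultPart.isFinite_mu R N r
  obtain ⟨h2, h3⟩ := finrank_mu R N r
  refine ⟨by rw [← hw]; infer_instance, ?_, fun s => ?_⟩
  · rw [← hw]
    infer_instance
  · rw [← hw, Scheme.Hom.finrank_comp_left_of_isIso]
    exact h3 s

end K270.MB
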