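import Groth.Agent.GrpSch.K270.MB.Shape2

/-!
# The plan of S14306: further node statements

Nothing is proved here.
-/

set_option autoImplicit false
set_option linter.unusedVariables false
universe u
open CategoryTheory CategoryTheory.Limits MonoidalCategory CartesianMonoidalCategory MonObj AlgebraicGeometry

noncomputable section

namespace K270.MB

/-- (ORTH) A pairing of `μ_N^r` with a finite group over a local ring which is trivial over (an extension of) the residue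
field is trivial. -/
def NodeOrth : Prop :=
  ∀ (R : Type u) [CommRing R] [IsLocalRing R] (M F : Over (Spec (CommRingCat.of R))) [GrpObj M] [GrpObj F]
    (_ : IsFinite F.hom) (N r : ℕ) (_ : 0 < N) (χ : Fin r → U M) (_ : IsMu N r M χ) (E : Pairing M F)
    (κ : Type u) [Field κ] (φ : R →+* κ) (_ : RingHom.ker φ = IsLocalRing.maximalIdeal R)
    (_ : ∀ {T : Over (Spec (CommRingCat.of κ))} (x : T ⟶ Red.bc (sp φ) M) (y : T ⟶ Red.bc (sp φ) F),
      E.e (T := (Over.map (sp φ)).obj T) (dn (sp φ) x) (dn (sp φ) y) = 1),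
    ∀ {T : Over (Spec (CommRingCat.of R))} (x : T ⟶ M) (y : T ⟶ F), E.e x y = 1

/-- (LIFT) Torsion points of `B` lift to torsion points of the semi-abelian `G`, fppf locally. -/
def NodeLiftTors : Prop :=
  ∀ (k : Type u) [Field k] (G T B : Over (Spec (CommRingCat.of k))) [GrpObj G] [IsCommMonObj G]
    [GrpObj T] [GrpObj B] (r : ℕ) (χ : Fin r → U T) (τ : T ⟶ G) (π : G ⟶ B) (_ : IsSemiAb r χ τ π)
    (_ : QuasiCompact π.left) (N : ℕ) (_ : 0 < N)
    (T₁ : Over (Spec (CommRingCat.of k))) (z : T₁ ⟶ B) (_ : z ^ N = 1),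
    ∃ (T₂ : Over (Spec (CommRingCat.of k))) (g : T₂ ⟶ T₁) (y : T₂ ⟶ G),
      Surjective g.left ∧ Flat g.left ∧ QuasiCompact g.left ∧ y ^ N = 1 ∧ y ≫ π = g ≫ z

/-- (FLATTORS) `A[N]` is flat over the base. -/
def NodeFlatTors : Prop :=
  ∀ (R : Type u) [CommRing R] [IsNoetherianRing R]
    (A : Over (Spec (CommRingCat.of R))) [GrpObj A] [IsCommMonObj A] (_ : Smooth A.hom) (_ : IsSeparated A.hom)
    (_ : QuasiCompact A.hom) (_ : SGA7.FibresUnipotentRankZero A) (N : ℕ) (_ : 0 < N),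
    ∃ (W : Over (Spec (CommRingCat.of R))) (_ : GrpObj W) (w : W ⟶ A), IsClSub w ∧ Flat W.hom ∧
      ∀ {T : Over (Spec (CommRingCat.of R))} (x : T ⟶ A), Fac w x ↔ x ^ N = 1

/-- (LOCAL) The local statement, over a strictly henselian normal local domain, for a group with connected fibres. -/
def NodeLocal : Prop :=
  ∀ (R : Type u) [CommRing R] [IsDomain R] [IsNoetherianRing R] [IsIntegrallyClosed R] [HenselianLocalRing R]
    [IsSepClosed (IsLocalRing.ResidueField R)]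
    (p : ℕ) (_ : p.Prime) (_ : (p : R) ∈ IsLocalRing.maximalIdeal R)
    (A : Over (Spec (CommRingCat.of R))) [GrpObj A] [IsCommMonObj A] (_ : Smooth A.hom) (_ : IsSeparated A.hom)
    (_ : QuasiCompact A.hom) (_ : GeometricallyConnected A.hom) (_ : SGA7.FibresUnipotentRankZero A)
    (_ : IsProper (Red.bc (gen R) A).hom)
    (L : (Red.bc (gen R) A).left.Modules) (_ : PicF.IsInvertible L)
    (Kl : Over (Spec (CommRingCat.of (FractionRing R)))) [GrpObj Kl] (j : Kl ⟶ Red.bc (gen R) A) (_ : IsMonHom j)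
    (_ : ThetaGrp.IsKL (Red.bc (gen R) A) L j) (_ : IsFinite Kl.hom),
    ∃ m₁ : ℕ, ∀ m, m₁ ≤ m → ∀ (F : Over (Spec (CommRingCat.of R))) [GrpObj F] (f : F ⟶ A),
      IsFinPart R A (p ^ m) f → FlatExt R F (fun x => Fac j (x ≫ (Over.pullback (gen R)).map f))

/-- (TPAIR) Over a discrete valuation ring the pairing is bimultiplicative on all torsion points. -/
def NodeTPair : Prop :=
  ∀ (V K : Type u) [CommRing V] [IsDomain V] [IsDiscreteValuationRing V] [Field K] [Algebra V K] [IsFractionRing V K]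
    (A : Over (Spec (CommRingCat.of V))) [GrpObj A] [IsCommMonObj A] (_ : Smooth A.hom) (_ : IsSeparated A.hom)
    (_ : QuasiCompact A.hom) (_ : SGA7.FibresUnipotentRankZero A)
    (_ : PushU (Red.bc (sp (algebraMap V K)) A))
    (P : (A ⊗ A).left.Modules) (_ : PicF.IsInvertible P) (D : Bir (GTor.ofMod (A ⊗ A) P)) (N : ℕ) (_ : 0 < N)
    (θ : Theta D N)
    (_ : ∀ {T : Over (Spec (CommRingCat.of K))} (x y : T ⟶ Red.bc (sp (algebraMap V K)) A)
      (hx : dn (sp (algebraMap V K)) x ^ N = 1) (hy : dn (sp (algebraMap V K)) y ^ N = 1),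
      θ.e (T := (Over.map (sp (algebraMap V K))).obj T) (dn (sp (algebraMap V K)) x) (dn (sp (algebraMap V K)) y) hx hy *
        θ.e (T := (Over.map (sp (algebraMap V K))).obj T) (dn (sp (algebraMap V K)) y) (dn (sp (algebraMap V K)) x) hy hx
          = 1),
    ∃ E : TPairing A N, (∀ {T : Over (Spec (CommRingCat.of V))} (x y : T ⟶ A) (hx : x ^ N = 1) (hy : y ^ N = 1),
        E.e x y hx hy = θ.e x y hx hy) ∧
      ∀ {T : Over (Spec (CommRingCat.of V))} (x y : T ⟶ A) (hx : x ^ N = 1) (hy : y ^ N = 1),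
        E.e x y hx hy * E.e y x hy hx = 1

/-- (EM) The pairings over `R`: everything about them which is used in the local assembly. -/
def NodeEm : Prop :=
  ∀ (R : Type u) [CommRing R] [IsDomain R] [IsNoetherianRing R] [IsIntegrallyClosed R] [HenselianLocalRing R]
    [IsSepClosed (IsLocalRing.ResidueField R)]
    (p : ℕ) (_ : p.Prime) (_ : (p : R) ∈ IsLocalRing.maximalIdeal R)
    (A : Over (Spec (CommRingCat.of R))) [GrpObj A] [IsCommMonObj A] (_ : Smooth A.hom) (_ : IsSeparated A.hom)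
    (_ : QuasiCompact A.hom) (_ : GeometricallyConnected A.hom) (_ : SGA7.FibresUnipotentRankZero A)
    (_ : IsProper (Red.bc (gen R) A).hom)
    (L : (Red.bc (gen R) A).left.Modules) (_ : PicF.IsInvertible L)
    (Kl : Over (Spec (CommRingCat.of (FractionRing R)))) [GrpObj Kl] (j : Kl ⟶ Red.bc (gen R) A) (_ : IsMonHom j)
    (_ : ThetaGrp.IsKL (Red.bc (gen R) A) L j) (_ : IsFinite Kl.hom),
    ∃ (F M : ℕ → Over (Spec (CommRingCat.of R))) (_ : ∀ m, GrpObj (F m)) (_ : ∀ m, GrpObj (M m))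
      (f : ∀ m, F m ⟶ A) (i : ∀ m, M m ⟶ F m) (r b c : ℕ) (χ : ∀ m, Fin r → U (M m)) (t : ∀ m, M m ⟶ M (m + 1))
      (E : ∀ m, Pairing (F m) (F m)) (e : ∀ m, TPairing (Red.bc (gen R) A) (p ^ m)),
      (∀ m, IsFinPart R A (p ^ m) (f m)) ∧ (∀ m, IsClSub (i m)) ∧ (∀ m, IsMu (p ^ m) r (M m) (χ m)) ∧
      (∀ m, t m ≫ i (m + 1) ≫ f (m + 1) = i m ≫ f m) ∧ (∀ m j, ures (t m) (χ (m + 1) j) = χ m j) ∧
      (∀ m s, (F m).hom.finrank s = p ^ (m * (2 * b + r))) ∧
      (∀ m s, (((𝟙 (Red.bc (gen R) A) : Red.bc (gen R) A ⟶ Red.bc (gen R) A) ^ (p ^ m)).left).finrank s =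
        p ^ (m * (2 * (b + r)))) ∧
      -- the generic fibre of `E` is `e`
      (∀ (m : ℕ) {T : Over (Spec (CommRingCat.of (FractionRing R)))} (x y : T ⟶ Red.bc (gen R) (F m))
        (hx : (x ≫ (Over.pullback (gen R)).map (f m)) ^ (p ^ m) = 1)
        (hy : (y ≫ (Over.pullback (gen R)).map (f m)) ^ (p ^ m) = 1),
        (e m).e (x ≫ (Over.pullback (gen R)).map (f m)) (y ≫ (Over.pullback (gen R)).map (f m)) hx hy =
          (E m).e (T := (Over.map (gen R)).obj T) (dn (gen R) x) (dn (gen R) y)) ∧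
      -- levels
      (∀ (m : ℕ) {T : Over (Spec (CommRingCat.of (FractionRing R)))} (x y : T ⟶ Red.bc (gen R) A)
        (hx : x ^ (p ^ m) = 1) (hx' : x ^ (p ^ (m + 1)) = 1) (hy : y ^ (p ^ (m + 1)) = 1) (hy' : (y ^ p) ^ (p ^ m) = 1),
        (e (m + 1)).e x y hx' hy = (e m).e x (y ^ p) hx hy') ∧
      -- skew symmetry
      (∀ (m : ℕ) {T : Over (Spec (CommRingCat.of (FractionRing R)))} (x y : T ⟶ Red.bc (gen R) A)
        (hx : x ^ (p ^ m) = 1) (hy : y ^ (p ^ m) = 1), (e m).e x y hx hy * (e m).e y x hy hx = 1) ∧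
      -- the radical of `e`
      (∀ (m : ℕ) {T : Over (Spec (CommRingCat.of (FractionRing R)))} (x : T ⟶ Red.bc (gen R) A) (hx : x ^ (p ^ m) = 1),
        Fac j x ↔ ∀ {T' : Over (Spec (CommRingCat.of (FractionRing R)))} (g : T' ⟶ T) (y : T' ⟶ Red.bc (gen R) A)
          (hgx : (g ≫ x) ^ (p ^ m) = 1) (hy : y ^ (p ^ m) = 1), (e m).e (g ≫ x) y hgx hy = 1) ∧
      -- `M ⊥ F`
      (∀ (m : ℕ) {T : Over (Spec (CommRingCat.of R))} (x : T ⟶ M m) (y : T ⟶ F m), (E m).e (x ≫ i m) y = 1) ∧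
      -- the radical on the closed fibre
      (∀ (m : ℕ) {T : Over (Spec (CommRingCat.of R))} (x : T ⟶ F m), (∃ q, T.hom = q ≫ sp (IsLocalRing.residue R)) →
        (∀ {T' : Over (Spec (CommRingCat.of R))} (g : T' ⟶ T) (y : T' ⟶ F m), (E m).e (g ≫ x) y = 1) →
          Fac (i m) (x ^ (p ^ c)))

end K270.MB
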