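import Groth.Agent.GrpSch.K270.MB.Dom

/-!
# Comparison of the pairing over `S` with the theta pairing over `S₁`

The square of bases is `c ≫ g = k ≫ v` (`g`, `k` generic points).  `E` is a pairing on `F` over `S` with generic fibre the
theta pairing of `A_H`; then `E` is the theta pairing of `A_{S₁}` on points over `S₁`.
-/

set_option autoImplicit false
universe u
open CategoryTheory CategoryTheory.Limits MonoidalCategory CartesianMonoidalCategory MonObj AlgebraicGeometry
open K999.Cart K999.EDesc K999.Scal Groth.Agent.Grpsch.PicGrp K529.KL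

noncomputable section

namespace K270.MB

theorem pw {S : Scheme.{u}} {A F T : Over S} [GrpObj A] {f : F ⟶ A} {N : ℕ} (hf : f ^ N = 1) (x : T ⟶ F) :
    (x ≫ f) ^ N = 1 := by
  rw [← comp_pow', hf, MonObj.comp_one]

theorem pw_bc {S S' : Scheme.{u}} (k : S' ⟶ S) {A F : Over S} [GrpObj A] {f : F ⟶ A} {N : ℕ} (hf : f ^ N = 1)
    {T : Over S'} (x : T ⟶ Red.bc k F) : (x ≫ (Over.pullback k).map f) ^ N = 1 := by
  apply dn_inj k
  rw [dn_pow, dn_map, pw hf, dn_one]

theorem pow_bc {S S' : Scheme.{u}} (k : S' ⟶ S) {A F : Over S} [GrpObj A] {f : F ⟶ A} {N : ℕ} (hf : f ^ N = 1) :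
    ((Over.pullback k).map f : Red.bc k F ⟶ Red.bc k A) ^ N = 1 := by
  have := pw_bc k hf (𝟙 (Red.bc k F))
  rwa [Category.id_comp] at this

theorem Theta.e_congr' {S : Scheme.{u}} {X : Over S} [GrpObj X] {P : GTor (X ⊗ X)} {D : Bir P} {N : ℕ} (θ : Theta D N)
    {T : Over S} {x x' y y' : T ⟶ X} (h1 : x = x') (h2 : y = y') (hx : x ^ N = 1) (hy : y ^ N = 1) :
    θ.e x y hx hy = θ.e x' y' (by rw [← h1]; exact hx) (by rw [← h2]; exact hy) := by
  subst h1 h2
  rfl

section Sq

variable {S S₁ H H' : Scheme.{u}} {g : H ⟶ S} {v : S₁ ⟶ S} {k : H' ⟶ S₁} {c : H' ⟶ H} (hc : c ≫ g = k ≫ v)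
  {A F : Over S} [GrpObj A] [GrpObj F] {f : F ⟶ A} {N : ℕ} (hf : f ^ N = 1)

include hf in
/-- The comparison on points over `H'`. -/
theorem e_generic (E : Pairing F F) {PK : GTor (Red.bc g A ⊗ Red.bc g A)} {DK : Bir PK} (θK : Theta DK N)
    (hE : ∀ {T : Over H} (x y : T ⟶ Red.bc g F) (hx : (x ≫ (Over.pullback g).map f) ^ N = 1)
      (hy : (y ≫ (Over.pullback g).map f) ^ N = 1),
      θK.e (x ≫ (Over.pullback g).map f) (y ≫ (Over.pullback g).map f) hx hy =
        E.e (T := (Over.map g).obj T) (dn g x) (dn g y))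
    {PV : GTor (Red.bc v A ⊗ Red.bc v A)} {DV : Bir PV} (θV : Theta DV N)
    {P' : GTor (Red.bc k (Red.bc v A) ⊗ Red.bc k (Red.bc v A))} {D' : Bir P'} (θ' : Theta D' N)
    (hU : PushU (Red.bc k (Red.bc v A)))
    (io : GBc k P' PV (cc k (Red.bc v A))) (io' : GBc c P' PK (cq c (qq hc A)))
    {T : Over H'} (x y : T ⟶ Red.bc k (Red.bc v F))
    (hx : dn k (x ≫ (Over.pullback k).map ((Over.pullback v).map f)) ^ N = 1)
    (hy : dn k (y ≫ (Over.pullback k).map ((Over.pullback v).map f)) ^ N = 1) :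
    E.e (T := (Over.map v).obj ((Over.map k).obj T)) (dn v (dn k x)) (dn v (dn k y)) =
      θV.e (T := (Over.map k).obj T) (dn k (x ≫ (Over.pullback k).map ((Over.pullback v).map f)))
        (dn k (y ≫ (Over.pullback k).map ((Over.pullback v).map f))) hx hy := by
  have hx₀ : (x ≫ (Over.pullback k).map ((Over.pullback v).map f)) ^ N = 1 := pw_bc k (pow_bc v hf) x
  have hy₀ : (y ≫ (Over.pullback k).map ((Over.pullback v).map f)) ^ N = 1 := pw_bc k (pow_bc v hf) y
  rw [← θV.e_bc k io θ' hU _ _ hx₀ hy₀]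
  have hx₁ : dq c (qq hc A) (x ≫ (Over.pullback k).map ((Over.pullback v).map f)) ^ N = 1 := by
    rw [← dq_pow c _ (qq_mul hc), hx₀, dq_one c _ (qq_mul hc)]
  have hy₁ : dq c (qq hc A) (y ≫ (Over.pullback k).map ((Over.pullback v).map f)) ^ N = 1 := by
    rw [← dq_pow c _ (qq_mul hc), hy₀, dq_one c _ (qq_mul hc)]
  rw [θK.e_bq c (qq hc A) (qq_mul hc) io' θ' hU _ _ hx₀ hy₀ hx₁ hy₁]
  have hx₂ : (dq c (qq hc F) x ≫ (Over.pullback g).map f) ^ N = 1 := pw_bc g hf _
  have hy₂ : (dq c (qq hc F) y ≫ (Over.pullback g).map f) ^ N = 1 := pw_bc g hf _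
  refine Eq.trans ?_ (θK.e_congr' (dq_qq_map hc f x) (dq_qq_map hc f y) hx₁ hy₁).symm
  rw [hE (dq c (qq hc F) x) (dq c (qq hc F) y)]
  have e1 := dn_dq_qq hc x
  have e2 := dn_dq_qq hc y
  have h : ∀ (a b : (Over.map g).obj ((Over.map c).obj T) ⟶ F), a = tr hc T ≫ dn v (dn k x) →
      b = tr hc T ≫ dn v (dn k y) → E.e (T := (Over.map g).obj ((Over.map c).obj T)) a b =
        E.e (T := (Over.map v).obj ((Over.map k).obj T)) (dn v (dn k x)) (dn v (dn k y)) := by
    rintro a b rfl rfl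
    refine (E.nat (tr hc T) _ _).trans ?_
    exact ures_tr hc T _
  exact (h _ _ e1 e2).symm

include hf in
/-- The comparison on points over `S₁`. -/
theorem e_total (E : Pairing F F) {PK : GTor (Red.bc g A ⊗ Red.bc g A)} {DK : Bir PK} (θK : Theta DK N)
    (hE : ∀ {T : Over H} (x y : T ⟶ Red.bc g F) (hx : (x ≫ (Over.pullback g).map f) ^ N = 1)
      (hy : (y ≫ (Over.pullback g).map f) ^ N = 1),
      θK.e (x ≫ (Over.pullback g).map f) (y ≫ (Over.pullback g).map f) hx hy =
        E.e (T := (Over.map g).obj T) (dn g x) (dn g y))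
    {PV : GTor (Red.bc v A ⊗ Red.bc v A)} {DV : Bir PV} (θV : Theta DV N)
    {P' : GTor (Red.bc k (Red.bc v A) ⊗ Red.bc k (Red.bc v A))} {D' : Bir P'} (θ' : Theta D' N)
    (hU : PushU (Red.bc k (Red.bc v A)))
    (io : GBc k P' PV (cc k (Red.bc v A))) (io' : GBc c P' PK (cq c (qq hc A)))
    (hinj : ∀ a b : U (Red.bc v F ⊗ Red.bc v F),
      ures (dn k (𝟙 (Red.bc k (Red.bc v F ⊗ Red.bc v F)))) a = ures (dn k (𝟙 _)) b → a = b)
    {T : Over S₁} (x y : (Over.map v).obj T ⟶ F) (hx : upp v (x ≫ f) ^ N = 1) (hy : upp v (y ≫ f) ^ N = 1) :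
    E.e x y = θV.e (upp v (x ≫ f)) (upp v (y ≫ f)) hx hy := by
  -- the universal case
  let W : Over S₁ := Red.bc v F ⊗ Red.bc v F
  let a : W ⟶ Red.bc v F := fst _ _
  let b : W ⟶ Red.bc v F := snd _ _
  have hfv : ((Over.pullback v).map f : Red.bc v F ⟶ Red.bc v A) ^ N = 1 := pow_bc v hf
  have ha : (a ≫ (Over.pullback v).map f) ^ N = 1 := pw hfv a
  have hb : (b ≫ (Over.pullback v).map f) ^ N = 1 := pw hfv b
  have huniv : (E.e (T := (Over.map v).obj W) (dn v a) (dn v b) : U W) =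
      θV.e (a ≫ (Over.pullback v).map f) (b ≫ (Over.pullback v).map f) ha hb := by
    apply hinj
    let p : (Over.map k).obj (Red.bc k W) ⟶ W := dn k (𝟙 (Red.bc k W))
    have e1 : ∀ (z : W ⟶ Red.bc v F), p ≫ z = dn k ((Over.pullback k).map z) := by
      intro z
      rw [← dn_map, Category.id_comp]
    have hpa : (p ≫ a ≫ (Over.pullback v).map f) ^ N = 1 := by rw [← comp_pow', ha, MonObj.comp_one]
    have hpb : (p ≫ b ≫ (Over.pullback v).map f) ^ N = 1 := by rw [← comp_pow', hb, MonObj.comp_one]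
    have hl : ures p (E.e (T := (Over.map v).obj W) (dn v a) (dn v b) : U W) =
        E.e (T := (Over.map v).obj ((Over.map k).obj (Red.bc k W))) (dn v (dn k ((Over.pullback k).map a)))
          (dn v (dn k ((Over.pullback k).map b))) := by
      rw [← e1, ← e1, dn_comp, dn_comp]
      exact (E.nat ((Over.map v).map p) (dn v a) (dn v b)).symm
    rw [hl, ← θV.e_nat p _ _ ha hb hpa hpb]
    have e2 : ∀ (z : W ⟶ Red.bc v F), p ≫ z ≫ (Over.pullback v).map f =
        dn k ((Over.pullback k).map z ≫ (Over.pullback k).map ((Over.pullback v).map f)) := by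
      intro z
      rw [dn_map, ← e1, Category.assoc]
    have h3 : ∀ z : W ⟶ Red.bc v F,
        dn k ((Over.pullback k).map z ≫ (Over.pullback k).map ((Over.pullback v).map f)) ^ N = 1 := by
      intro z
      rw [← dn_pow, pw_bc k hfv, dn_one]
    rw [θV.e_congr' (e2 a) (e2 b) hpa hpb]
    exact e_generic hc hf E θK hE θV θ' hU io io' _ _ _ _
  -- the general case
  let z : T ⟶ W := lift (upp v x) (upp v y)
  have hza : z ≫ a = upp v x := lift_fst _ _
  have hzb : z ≫ b = upp v y := lift_snd _ _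
  have hx' : (Over.map v).map z ≫ dn v a = x := by rw [← dn_comp, hza, dn_upp]
  have hy' : (Over.map v).map z ≫ dn v b = y := by rw [← dn_comp, hzb, dn_upp]
  have h1 : E.e x y = ures z (E.e (T := (Over.map v).obj W) (dn v a) (dn v b) : U W) := by
    have := E.nat ((Over.map v).map z) (dn v a) (dn v b)
    rw [hx', hy'] at this
    exact this
  have hxa : (z ≫ a ≫ (Over.pullback v).map f) ^ N = 1 := by rw [← comp_pow', ha, MonObj.comp_one]
  have hxb : (z ≫ b ≫ (Over.pullback v).map f) ^ N = 1 := by rw [← comp_pow', hb, MonObj.comp_one]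
  refine h1.trans ?_
  rw [huniv, ← θV.e_nat z _ _ ha hb hxa hxb]
  exact θV.e_congr' (by rw [← Category.assoc, hza, upp_map]) (by rw [← Category.assoc, hzb, upp_map]) _ _

end Sq

end K270.MB
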