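import Groth.Agent.GrpSch.K270.MB.AsmA
import Groth.Agent.GrpSch.K270.MB.MuRank
import Groth.Agent.GrpSch.K270.MB.Good
import Groth.Agent.GrpSch.K270.MB.VCompat
import Groth.Agent.GrpSch.K270.MB.Shape3
import Groth.Agent.GrpSch.K106.Rad
import Groth.Agent.GrpSch.K106.Count
import Groth.Agent.GrpSch.K554.FlatTors
import Groth.Agent.GrpSch.K521.RigMain
import Groth.Agent.GrpSch.K388.FinPartFac
import Groth.Agent.GrpSch.K567.GenInj
import Groth.Agent.GrpSch.K515.GenTors
import Groth.Agent.GrpSch.K269.KillFin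

/-!
# The local assembly
-/

set_option autoImplicit false
universe u
open CategoryTheory CategoryTheory.Limits MonoidalCategory CartesianMonoidalCategory MonObj AlgebraicGeometry

noncomputable section

namespace K270.MB

theorem nodeLocal (hEm : NodeEm.{u}) : NodeLocal.{u} := by
  intro R _ _ _ _ _ _ p hp hpm A _ _ hsm hsep hqc hconn hrank hprop L hL Kl _ j hj hKl hKlfin
  obtain ⟨F, M, gF, gM, f, i, r, b, c, χ, t, E, e, hfin, hi, hmu, ht, hχ, hrkF, hrkA, hgen, hlev, hskew, hrad, hMF,
    hcl⟩ := hEm R p hp hpm A hsm hsep hqc hconn hrank hprop L hL Kl j hj hKl hKlfin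
  have hpp : ∀ m, 0 < p ^ m := fun m => pow_pos hp.pos m
  have hf : ∀ m, IsClSub (f m) := fun m => (hfin m).toIsClSub
  have hfm : ∀ m, Mono (f m) := fun m => K521.RigFF.mono_of_closed (hf m).closed
  have him : ∀ m, Mono (i m) := fun m => K521.RigFF.mono_of_closed (hi m).closed
  have hfh : ∀ m, IsMonHom (f m) := fun m => (hf m).mon
  have hih : ∀ m, IsMonHom (i m) := fun m => (hi m).mon
  have hcomm : ∀ m, IsCommMonObj (F m) := fun m => K521.RigFF.isCommMonObj_of_mono' (f m)
  -- the radicals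
  have hD0 := fun m => K106.Rad.rad R (F m) (hfin m).finite (hfin m).flat (E m)
  choose D gD d hd hDrad using hD0
  have hdh : ∀ m, IsMonHom (d m) := fun m => (hd m).mon
  have hdm : ∀ m, Mono (d m) := fun m => K521.RigFF.mono_of_closed (hd m).closed
  have hcommD : ∀ m, IsCommMonObj (D m) := fun m => K521.RigFF.isCommMonObj_of_mono' (d m)
  -- finite parts at different levels
  have hstep : ∀ m {T : Over (Spec (CommRingCat.of R))} (x : T ⟶ A), Fac (f m) x ↔ Fac (f (m + 1)) x ∧ x ^ (p ^ m) = 1 :=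
    fun m _ x => K388.FinPart.fac_iff (pow_dvd_pow p (Nat.le_succ m)) (hfin m) (hfin (m + 1)) x
  -- flatness of the radicals
  obtain ⟨m₀, hm₀⟩ := K521.RigMain.weak R p hp hpm A hsm F M D f hfin i hi r χ hmu t ht hχ (2 * b) hrkF E
    (K567.GenInj.skew_seq hfin E e hgen hskew)
    (K567.GenInj.level_seq hfin E e hgen hlev (fun m => ((hstep m (f m)).mp ⟨𝟙 _, Category.id_comp _⟩).1)
      (fun m => ((hstep m (f (m + 1) ^ p)).mpr ⟨⟨(𝟙 _) ^ p, by rw [pow_comp', Category.id_comp]⟩, by
        rw [← pow_mul, ← pow_succ']; exact (hfin (m + 1)).pow⟩)))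
    hMF d hd hDrad c hcl
  -- the group `K`
  have hjm : Mono j := K521.RigFF.mono_of_closed hKl.closed
  have hjm' : Mono j.left := inferInstance
  have hA : GoodA A := ⟨inferInstance, hsm, hsep, hqc, hconn, hrank⟩
  have hgi := (hA.bc (gen R)).gi
  have hcommK := (hA.bc (gen R)).comm
  obtain ⟨n₀, hn₀, hKn⟩ := K269.KillFin.exists_kill_of_mono j hjm' hKlfin
  refine ⟨max m₀ (n₀.factorization p), fun m hm F' _ f' hf' => ?_⟩
  have hmm₀ : m₀ ≤ m := (le_max_left _ _).trans hm
  have hmn₀ : n₀.factorization p ≤ m := (le_max_right _ _).trans hm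
  have hDflat : Flat (D m).hom := hm₀ m hmm₀
  have hFfin := (hfin m).finite
  have hdc := (hd m).closed
  have hDfin : IsFinite (D m).hom := by
    have h : (d m).left ≫ (F m).hom = (D m).hom := Over.w (d m)
    rw [← h]
    infer_instance
  -- the generic fibre
  let g := gen R
  let X := Red.bc g A
  have hW0 := fun m => K554.FlatTors.main R A hsm hsep hqc hrank (p ^ m) (hpp m)
  choose W gW w hw hWflat hWfac using hW0
  have hWfac' : ∀ (m : ℕ) {T : Over (Spec (CommRingCat.of (FractionRing R)))} (x : T ⟶ X),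
      Fac ((Over.pullback g).map (w m)) x ↔ x ^ (p ^ m) = 1 := by
    intro m T x
    rw [fac_bc, hWfac, ← dn_pow]
    constructor
    · intro h
      apply dn_inj g
      rw [h, dn_one]
    · intro h
      rw [h, dn_one]
  have hWX := fun m => K515.GenTors.main X ((Over.pullback g).map (w m)) (isClSub_bc g (hw m)) (p ^ m) (hpp m)
    (fun x => hWfac' m x)
  have hrkM : ∀ m, IsFinite (M m).hom ∧ Flat (M m).hom ∧ ∀ s, (M m).hom.finrank s = (p ^ m) ^ r :=
    fun m => rank_mu (hpp m) (hmu m)
  -- the radical over `K`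
  have hradF : ∀ (m : ℕ) {T : Over (Spec (CommRingCat.of (FractionRing R)))} (x : T ⟶ Red.bc g (F m)),
      Fac ((Over.pullback g).map (d m)) x ↔
        ∀ {T' : Over (Spec (CommRingCat.of (FractionRing R)))} (h : T' ⟶ T) (y : T' ⟶ Red.bc g (F m))
          (hx : (h ≫ x ≫ (Over.pullback g).map (f m)) ^ (p ^ m) = 1)
          (hy : (y ≫ (Over.pullback g).map (f m)) ^ (p ^ m) = 1),
          (e m).e (h ≫ x ≫ (Over.pullback g).map (f m)) (y ≫ (Over.pullback g).map (f m)) hx hy = 1 := by
    intro m T x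
    rw [fac_bc_rad g (E m) (d m) (hDrad m)]
    constructor
    · intro H T' h y hx hy
      have h1 := hgen m (h ≫ x) y (by rw [Category.assoc]; exact hx) hy
      rw [H h y] at h1
      rw [← h1]
      congr 1
    · intro H T' h y
      have hx : (h ≫ x ≫ (Over.pullback g).map (f m)) ^ (p ^ m) = 1 := by
        rw [← Category.assoc]
        exact pw_bc g (hfin m).pow _
      have hy : (y ≫ (Over.pullback g).map (f m)) ^ (p ^ m) = 1 := pw_bc g (hfin m).pow _
      have h1 := hgen m (h ≫ x) y (by rw [Category.assoc]; exact hx) hy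
      rw [← h1, ← H h y hx hy]
      congr 1
  have hdn1 : ∀ {T : Over (Spec (CommRingCat.of (FractionRing R)))} (x : T ⟶ X) (n : ℕ),
      dn g x ^ n = 1 ↔ x ^ n = 1 := by
    intro T x n
    rw [← dn_pow]
    constructor
    · intro h
      apply dn_inj g
      rw [h, dn_one]
    · intro h
      rw [h, dn_one]
  have hcount := K106.Count.main (FractionRing R) p hp X (fun m => Red.bc g (W m)) (fun m => Red.bc g (F m))
    (fun m => Red.bc g (M m)) (fun m => (Over.pullback g).map (w m)) (fun m => isClSub_bc g (hw m))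
    (fun m => (hWX m).1) (fun m _ x => hWfac' m x) (fun m => (Over.pullback g).map (f m))
    (fun m => isClSub_bc g (hf m)) (fun m => by
      have := (hfin m).finite
      exact inferInstanceAs (IsFinite (pullback.snd (F m).hom g)))
    (fun m _ x => by rw [fac_bc, fac_bc, hstep, hdn1])
    (fun m => (Over.pullback g).map (i m)) (fun m => isClSub_bc g (hi m))
    (fun m _ x => by rw [← Functor.map_comp, ← Functor.map_comp, fac_bc, fac_bc, facM_succ hf hi hmu ht hχ, hdn1])
    b r (fun m s => ((hWX m).2 s ((η[X] : 𝟙_ (Over (Spec (CommRingCat.of (FractionRing R)))) ⟶ X).left s)).trans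
      (hrkA m _))
    (fun m s => by
      have h1 := (hfin m).finite
      have h2 := (hfin m).flat
      rw [K521.RigBun.finrank_bc, hrkF])
    (fun m s => by
      obtain ⟨h1, h2, h3⟩ := hrkM m
      rw [K521.RigBun.finrank_bc, h3, pow_mul])
    e hlev hskew Kl j ⟨hj, hKl.closed⟩ hKlfin hrad
    (fun m T x y hx hy => by
      have h1 := hgen m (x ≫ (Over.pullback g).map (i m)) y (pw_bc g (hfin m).pow _) hy
      rw [dn_map, hMF] at h1
      rw [← h1]
      congr 1)
  -- the closure
  obtain ⟨iD, hiD⟩ := (hDrad m (i m)).mpr (fun h y => hMF m h y)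
  have hiDh : IsMonHom iD := K521.RigFF.isMonHom_of_comp_mono iD (d m) (i m) hiD
  have hiDc : IsClosedImmersion iD.left := by
    have h1 : IsClosedImmersion (iD.left ≫ (d m).left) := by
      rw [← Over.comp_left, hiD]
      exact (hi m).closed
    exact IsClosedImmersion.of_comp iD.left (d m).left
  have hfc := (hf m).closed
  have hdf : IsClSub (d m ≫ f m) := ⟨inferInstance, by rw [Over.comp_left]; infer_instance⟩
  let a : Red.bc g (D m) ⟶ X := (Over.pullback g).map (d m ≫ f m)
  have hah : IsMonHom a := (isClSub_bc g hdf).mon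
  obtain ⟨gH, hH⟩ := K982.Nodes.exists_inter a j
  have hjc := hKl.closed
  have hHc : IsClosedImmersion (pullback.fst a j).left := by
    have hpb := (IsPullback.of_hasPullback a j).map (Over.forget _)
    exact MorphismProperty.of_isPullback (P := @IsClosedImmersion) hpb.flip hjc
  have hHfac : ∀ {T : Over (Spec (CommRingCat.of (FractionRing R)))} (x : T ⟶ Red.bc g (D m)),
      Fac (pullback.fst a j) x ↔ Fac j (x ≫ a) := by
    intro T x
    constructor
    · rintro ⟨y, rfl⟩
      exact ⟨y ≫ pullback.snd a j, by rw [Category.assoc, Category.assoc, pullback.condition]⟩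
    · rintro ⟨y, hy⟩
      exact ⟨pullback.lift x y hy.symm, pullback.lift_fst _ _ _⟩
  have hclos := K982.Nodes.nodeClosure R (D m) (M m) iD hDfin hDflat ⟨hiDh, hiDc⟩ (p ^ m) r (hpp m) (χ m) (hmu m)
    (pullback a j) (pullback.fst a j) ⟨hH, hHc⟩ (by
      intro T x
      obtain ⟨T', g', m', v, h1, h2, h3, y', hy'⟩ := hcount m T (x ≫ (Over.pullback g).map (d m))
        (fun h y hx hy => (hradF m _).mp ⟨x, rfl⟩ h y hx hy)
      set Xx := g' ≫ (x ≫ (Over.pullback g).map (d m)) ≫ (Over.pullback g).map (f m) with hXx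
      set V := v ≫ (Over.pullback g).map (i m') ≫ (Over.pullback g).map (f m') with hV
      have e1 : (Xx * V⁻¹) ^ n₀ = 1 := by
        rw [← hy', ← pow_comp', hKn, MonObj.one_comp]
      have e2 : Xx ^ (p ^ m) = 1 := by
        rw [hXx, ← Category.assoc]
        exact pw_bc g (hfin m).pow _
      have e3 : V ^ (p ^ m') = 1 := by
        rw [hV, ← Category.assoc]
        exact pw_bc g (hfin m').pow _
      have e4 : (Xx * V⁻¹) ^ (p ^ (m + m')) = 1 := by
        rw [mul_pow, pow_add, pow_mul, e2, one_pow, _root_.one_mul, mul_comm (p ^ m), pow_mul, inv_pow, e3, inv_one,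
          one_pow]
      have e5 := pow_ppart hp hn₀.ne' e1 e4
      have e6 : (Xx * V⁻¹) ^ (p ^ m) = 1 := by
        obtain ⟨q, hq⟩ := pow_dvd_pow p hmn₀
        rw [hq, pow_mul, e5, one_pow]
      have e7 : V ^ (p ^ m) = 1 := by
        have e8 : V = (Xx * V⁻¹)⁻¹ * Xx := by rw [mul_inv_rev, inv_inv, inv_mul_cancel_right]
        rw [e8, mul_pow, inv_pow, e6, e2, inv_one, _root_.one_mul]
      have e9 : Fac ((Over.pullback g).map (i m ≫ f m)) V := by
        rw [fac_bc]
        have e10 : Fac (i m' ≫ f m') (dn g V) := by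
          rw [← fac_bc]
          exact ⟨v, by rw [hV, Functor.map_comp]⟩
        rcases le_total m m' with hle | hle
        · exact (facM_le hf hi hmu ht hχ hle _).mpr ⟨e10, (hdn1 _ _).mpr e7⟩
        · exact ((facM_le hf hi hmu ht hχ hle _).mp e10).1
      obtain ⟨u, hu⟩ := e9
      refine ⟨T', g', u, h1, h2, h3, (hHfac _).mpr ⟨y', hy'.trans ?_⟩⟩
      rw [MonObj.mul_comp, GrpObj.inv_comp, Category.assoc, Category.assoc, ← Functor.map_comp, ← Category.assoc iD,
        hiD, hu, hXx, Category.assoc, ← Functor.map_comp])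
  -- transport
  obtain ⟨H', gH', i', hi', hH'flat, hi'fac⟩ := hclos
  obtain ⟨s, hs⟩ := (K388.FinPart.fac_same (hfin m) hf' (f m)).mp ⟨𝟙 _, Category.id_comp _⟩
  obtain ⟨s', hs'⟩ := (K388.FinPart.fac_same (hfin m) hf' f').mpr ⟨𝟙 _, Category.id_comp _⟩
  have hf'm : Mono f' := K521.RigFF.mono_of_closed hf'.closed
  have hf'h := hf'.mon
  have hf'c := hf'.closed
  have hsh : IsMonHom s := K521.RigFF.isMonHom_of_comp_mono s f' (f m) hs
  have hsc : IsClosedImmersion s.left := by
    have h1 : IsClosedImmersion (s.left ≫ f'.left) := by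
      rw [← Over.comp_left, hs]
      exact hfc
    exact IsClosedImmersion.of_comp s.left f'.left
  have hss : s' ≫ s = 𝟙 _ := by rw [← cancel_mono f', Category.assoc, hs, hs', Category.id_comp]
  have hi'h := hi'.mon
  have hi'c := hi'.closed
  refine ⟨H', gH', i' ≫ d m ≫ s, ⟨inferInstance, by rw [Over.comp_left, Over.comp_left]; infer_instance⟩, hH'flat, ?_⟩
  intro T x
  constructor
  · rintro ⟨y, rfl⟩
    have h1 := (hHfac _).mp ((hi'fac (y ≫ (Over.pullback g).map i')).mp ⟨y, rfl⟩)
    have h2 : (y ≫ (Over.pullback g).map (i' ≫ d m ≫ s)) ≫ (Over.pullback g).map f' =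
        (y ≫ (Over.pullback g).map i') ≫ a := by
      change _ = (y ≫ (Over.pullback g).map i') ≫ (Over.pullback g).map (d m ≫ f m)
      rw [Category.assoc, Category.assoc, ← Functor.map_comp, ← Functor.map_comp, Category.assoc, Category.assoc, hs]
    rw [h2]
    exact h1
  · intro h
    replace h : Fac j (x ≫ (Over.pullback g).map f') := h
    set x₁ : T ⟶ Red.bc g (F m) := x ≫ (Over.pullback g).map s' with hx₁
    have h1 : x₁ ≫ (Over.pullback g).map (f m) = x ≫ (Over.pullback g).map f' := by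
      rw [hx₁, Category.assoc, ← Functor.map_comp, hs']
    have hx₁p : (x₁ ≫ (Over.pullback g).map (f m)) ^ (p ^ m) = 1 := pw_bc g (hfin m).pow _
    rw [← h1, hrad m _ hx₁p] at h
    obtain ⟨x₂, hx₂⟩ := (hradF m x₁).mpr (fun h' y hx hy => h h' _ hx hy)
    have h3 : Fac j (x₂ ≫ a) := by
      have h4 : x₂ ≫ a = x₁ ≫ (Over.pullback g).map (f m) := by
        change x₂ ≫ (Over.pullback g).map (d m ≫ f m) = _
        rw [Functor.map_comp, ← Category.assoc, hx₂]
      rw [h4, hrad m _ hx₁p]
      exact h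
    obtain ⟨y, hy⟩ := (hi'fac x₂).mpr ((hHfac x₂).mpr h3)
    refine ⟨y, ?_⟩
    have h5 : x = x₁ ≫ (Over.pullback g).map s := by
      rw [hx₁, Category.assoc, ← Functor.map_comp, hss, CategoryTheory.Functor.map_id, Category.comp_id]
    rw [h5, ← hx₂, ← hy, Category.assoc, Category.assoc, ← Functor.map_comp, ← Functor.map_comp]

end K270.MB
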