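import Groth.Agent.GrpSch.K270.MB.Dom
import Groth.Agent.GrpSch.K521.RigFF
import Groth.Agent.GrpSch.K982.Nodes
import Groth.Agent.GrpSch.K267.MuSch

/-!
# Lemmas for the local assembly
-/

set_option autoImplicit false
universe u
open CategoryTheory CategoryTheory.Limits MonoidalCategory CartesianMonoidalCategory MonObj AlgebraicGeometry

noncomputable section

namespace K270.MB

section Bc

variable {S S' : Scheme.{u}} (k : S' ⟶ S)

theorem fac_bc {X Y : Over S} (f : X ⟶ Y) {T : Over S'} (x : T ⟶ Red.bc k Y) :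
    Fac ((Over.pullback k).map f) x ↔ Fac f (dn k x) := by
  constructor
  · rintro ⟨y, rfl⟩
    exact ⟨dn k y, (dn_map k y f).symm⟩
  · rintro ⟨y, hy⟩
    exact ⟨upp k y, by rw [← upp_map, hy, upp_dn]⟩

theorem isClSub_bc {X Y : Over S} [GrpObj X] [GrpObj Y] {f : X ⟶ Y} (h : IsClSub f) :
    IsClSub ((Over.pullback k).map f : Red.bc k X ⟶ Red.bc k Y) := K521.RigBun.IsClSub.map k h

/-- The radical and base change. -/
theorem fac_bc_rad {F D : Over S} [GrpObj F] (E : Pairing F F) (d : D ⟶ F)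
    (hD : ∀ {T : Over S} (x : T ⟶ F), Fac d x ↔ ∀ {T' : Over S} (g : T' ⟶ T) (y : T' ⟶ F), E.e (g ≫ x) y = 1)
    {T : Over S'} (x : T ⟶ Red.bc k F) :
    Fac ((Over.pullback k).map d) x ↔
      ∀ {T' : Over S'} (g : T' ⟶ T) (y : T' ⟶ Red.bc k F), E.e (T := (Over.map k).obj T') (dn k (g ≫ x)) (dn k y) = 1 := by
  rw [fac_bc, hD]
  constructor
  · intro h T' g y
    have := h ((Over.map k).map g) (dn k y)
    rwa [← dn_comp] at this
  · intro h T' g y
    let T'' : Over S' := Over.mk (g.left ≫ T.hom)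
    have e1 : (g.left ≫ T.hom) ≫ k = T'.hom := (Category.assoc _ _ _).trans (Over.w g)
    let s : T' ⟶ (Over.map k).obj T'' := Over.homMk (𝟙 _) ((Category.id_comp _).trans e1)
    let s' : (Over.map k).obj T'' ⟶ T' := Over.homMk (𝟙 _) ((Category.id_comp _).trans e1.symm)
    have hss : s ≫ s' = 𝟙 _ := by
      apply Over.OverMorphism.ext
      exact Category.id_comp _
    let g'' : T'' ⟶ T := Over.homMk g.left rfl
    have hg : g = s ≫ (Over.map k).map g'' := by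
      apply Over.OverMorphism.ext
      exact (Category.id_comp _).symm
    have h1 := h g'' (upp k (s' ≫ y))
    rw [dn_upp, dn_comp] at h1
    have h2 := E.nat s ((Over.map k).map g'' ≫ dn k x) (s' ≫ y)
    rw [← Category.assoc, ← hg, ← Category.assoc, hss, Category.id_comp] at h2
    rw [h2]
    exact (congrArg (ures s) h1).trans (map_one _)

end Bc

/-- The `p`-part of the exponent. -/
theorem pow_ppart {G : Type*} [Group G] {z : G} {n p k : ℕ} (hp : p.Prime) (hn : n ≠ 0) (h1 : z ^ n = 1)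
    (h2 : z ^ (p ^ k) = 1) : z ^ (p ^ n.factorization p) = 1 := by
  obtain ⟨i, -, hi⟩ := (Nat.dvd_prime_pow hp).mp (orderOf_dvd_of_pow_eq_one h2)
  have h3 : p ^ i ∣ n := hi ▸ orderOf_dvd_of_pow_eq_one h1
  have h4 : i ≤ n.factorization p := (hp.pow_dvd_iff_le_factorization hn).mp h3
  rw [← orderOf_dvd_iff_pow_eq_one, hi]
  exact pow_dvd_pow p h4

section Mu

variable {S : Scheme.{u}} {A : Over S} [GrpObj A] {p r : ℕ} {F M : ℕ → Over S} [∀ m, GrpObj (F m)] [∀ m, GrpObj (M m)]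
  {f : ∀ m, F m ⟶ A} {i : ∀ m, M m ⟶ F m} (hf : ∀ m, IsClSub (f m)) (hi : ∀ m, IsClSub (i m))
  {χ : ∀ m, Fin r → U (M m)} (hmu : ∀ m, IsMu (p ^ m) r (M m) (χ m))
  {t : ∀ m, M m ⟶ M (m + 1)} (ht : ∀ m, t m ≫ i (m + 1) ≫ f (m + 1) = i m ≫ f m)
  (hχ : ∀ m j, ures (t m) (χ (m + 1) j) = χ m j)

include hf hi hmu ht hχ in
theorem facM_succ (m : ℕ) {T : Over S} (x : T ⟶ A) :
    Fac (i m ≫ f m) x ↔ Fac (i (m + 1) ≫ f (m + 1)) x ∧ x ^ (p ^ m) = 1 := by
  have a1 := (hf m).mon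
  have a2 := (hi m).mon
  have b1 := (hf (m + 1)).mon
  have b2 := (hi (m + 1)).mon
  have c1 := K521.RigFF.mono_of_closed (hf (m + 1)).closed
  have c2 := K521.RigFF.mono_of_closed (hi (m + 1)).closed
  constructor
  · rintro ⟨y, rfl⟩
    refine ⟨⟨y ≫ t m, by rw [Category.assoc, ht]⟩, ?_⟩
    rw [← pow_comp', K267.MuSch.pow_eq_one (hmu m) y, MonObj.one_comp]
  · rintro ⟨⟨y, rfl⟩, hx⟩
    have hy : y ^ (p ^ m) = 1 := by
      rw [← cancel_mono (i (m + 1) ≫ f (m + 1)), pow_comp', hx, MonObj.one_comp]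
    have hv : ∀ j, (ures y (χ (m + 1) j)) ^ (p ^ m) = 1 := by
      intro j
      rw [← K267.MuSch.ures_mu_pow (hmu (m + 1)), hy, K267.MuSch.ures_mu_one (hmu (m + 1))]
    obtain ⟨z, hz, -⟩ := (hmu m).bij (fun j => ures y (χ (m + 1) j)) hv
    refine ⟨z, ?_⟩
    rw [← ht, ← Category.assoc]
    congr 1
    apply K267.MuSch.mu_ext (hmu (m + 1))
    intro j
    rw [ures_comp, hχ, hz]

include hf hi hmu ht hχ in
theorem facM_le {m m' : ℕ} (hm : m ≤ m') {T : Over S} (x : T ⟶ A) :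
    Fac (i m ≫ f m) x ↔ Fac (i m' ≫ f m') x ∧ x ^ (p ^ m) = 1 := by
  obtain ⟨d, rfl⟩ := Nat.exists_eq_add_of_le hm
  induction d with
  | zero =>
    refine ⟨fun h => ⟨h, ?_⟩, fun h => h.1⟩
    exact ((facM_succ hf hi hmu ht hχ m x).mp h).2
  | succ d ih =>
    rw [ih (Nat.le_add_right _ _), ← Nat.add_assoc, facM_succ hf hi hmu ht hχ (m + d) x]
    refine ⟨fun h => ⟨h.1.1, h.2⟩, fun h => ⟨⟨h.1, ?_⟩, h.2⟩⟩
    rw [pow_add, pow_mul, h.2, one_pow]

end Mu

end K270.MB
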