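import Groth.Agent.GrpSch.K270.MB.Exist

/-!
# Base change of the pairing

* `dn k x`: the point of `X` over `S` attached to a point of `Red.bc k X`; a bijection compatible with products.
* `GBc k P' P c`: a cartesian map of torsors over a base change; `GBc.ofArr`.
* `Theta.e_bc`: the pairings agree, for any choice of the data, when `PushU` holds over the new base.
-/

set_option autoImplicit false
universe u
open CategoryTheory CategoryTheory.Limits MonoidalCategory CartesianMonoidalCategory MonObj AlgebraicGeometry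
open K999.Cart K999.EDesc K999.Scal Groth.Agent.Grpsch.PicGrp K529.KL

noncomputable section

namespace K270.MB

variable {S S' : Scheme.{u}} (k : S' ⟶ S)

/-- The point of `X` over `S` given by a point of the base change. -/
def dn {X : Over S} {T : Over S'} (x : T ⟶ Red.bc k X) : (Over.map k).obj T ⟶ X :=
  ((Over.mapPullbackAdj k).homEquiv T X).symm x

/-- The point of the base change given by a point of `X` over `S`. -/
def upp {X : Over S} {T : Over S'} (x : (Over.map k).obj T ⟶ X) : T ⟶ Red.bc k X :=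
  (Over.mapPullbackAdj k).homEquiv T X x

theorem dn_upp {X : Over S} {T : Over S'} (x : (Over.map k).obj T ⟶ X) : dn k (upp k x) = x :=
  Equiv.symm_apply_apply _ _

theorem upp_dn {X : Over S} {T : Over S'} (x : T ⟶ Red.bc k X) : upp k (dn k x) = x :=
  Equiv.apply_symm_apply _ _

theorem upp_mul {X : Over S} [GrpObj X] {T : Over S'} (x y : (Over.map k).obj T ⟶ X) :
    upp k (x * y) = upp k x * upp k y := by
  rw [upp, upp, upp, Adjunction.homEquiv_unit, Adjunction.homEquiv_unit, Adjunction.homEquiv_unit]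
  have h : (Over.pullback k).map (x * y) = (Over.pullback k).map x * (Over.pullback k).map y :=
    Functor.map_mul (Over.pullback k) x y
  rw [h, MonObj.comp_mul]

theorem dn_mul {X : Over S} [GrpObj X] {T : Over S'} (x y : T ⟶ Red.bc k X) : dn k (x * y) = dn k x * dn k y := by
  have h := upp_mul k (dn k x) (dn k y)
  rw [upp_dn, upp_dn] at h
  rw [← h, dn_upp]

theorem dn_one {X : Over S} [GrpObj X] {T : Over S'} : dn k (1 : T ⟶ Red.bc k X) = 1 := by
  have h := dn_mul k (1 : T ⟶ Red.bc k X) 1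
  rw [_root_.mul_one] at h
  exact left_eq_mul.mp h

theorem dn_pow {X : Over S} [GrpObj X] {T : Over S'} (x : T ⟶ Red.bc k X) (n : ℕ) : dn k (x ^ n) = dn k x ^ n := by
  induction n with
  | zero => rw [pow_zero, pow_zero, dn_one]
  | succ n ih => rw [pow_succ, pow_succ, dn_mul, ih]

theorem dn_comp {X : Over S} {T T' : Over S'} (g : T' ⟶ T) (x : T ⟶ Red.bc k X) :
    dn k (g ≫ x) = (Over.map k).map g ≫ dn k x :=
  Adjunction.homEquiv_naturality_left_symm _ _ _

theorem dn_map {X Y : Over S} {T : Over S'} (x : T ⟶ Red.bc k X) (f : X ⟶ Y) :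
    dn k (x ≫ (Over.pullback k).map f) = dn k x ≫ f :=
  Adjunction.homEquiv_naturality_right_symm _ _ _

theorem dn_inj {X : Over S} {T : Over S'} {x y : T ⟶ Red.bc k X} (h : dn k x = dn k y) : x = y := by
  rw [← upp_dn k x, h, upp_dn]

theorem dn_left {X : Over S} {T : Over S'} (x : T ⟶ Red.bc k X) :
    (dn k x).left = x.left ≫ pullback.fst X.hom k := rfl

/-- The canonical morphism of the products. -/
abbrev cc (X : Over S) : (Over.map k).obj (Red.bc k X ⊗ Red.bc k X) ⟶ X ⊗ X :=
  lift (dn k (fst (Red.bc k X) (Red.bc k X))) (dn k (snd (Red.bc k X) (Red.bc k X)))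

theorem map_cc {X : Over S} {T : Over S'} (z : T ⟶ Red.bc k X ⊗ Red.bc k X) :
    (Over.map k).map z ≫ cc k X = lift (dn k (z ≫ fst _ _)) (dn k (z ≫ snd _ _)) := by
  rw [comp_lift, dn_comp, dn_comp]

/-- A cartesian map of torsors over a base change. -/
structure GBc {X' : Over S'} {X : Over S} (P' : GTor X') (P : GTor X) (c : (Over.map k).obj X' ⟶ X) where
  map : ∀ {T : Over S'}, P'.obj T → P.obj ((Over.map k).obj T)
  pt_map : ∀ {T : Over S'} (a : P'.obj T), P.pt (map a) = (Over.map k).map (P'.pt a) ≫ c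
  map_res : ∀ {T T' : Over S'} (g : T' ⟶ T) (a : P'.obj T), map (P'.res g a) = P.res ((Over.map k).map g) (map a)
  map_act : ∀ {T : Over S'} (v : U T) (a : P'.obj T), map (P'.act v a) = P.act (T := (Over.map k).obj T) v (map a)
  lift : ∀ {T : Over S'} (z : T ⟶ X') (a : P.obj ((Over.map k).obj T)), P.pt a = (Over.map k).map z ≫ c →
    ∃ a' : P'.obj T, P'.pt a' = z ∧ map a' = a

/-- The pairings over `S'` and over `S` agree. -/
theorem Theta.e_bc {X : Over S} [GrpObj X] {P : GTor (X ⊗ X)} {P' : GTor (Red.bc k X ⊗ Red.bc k X)}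
    (io : GBc k P' P (cc k X)) {D : Bir P} {D' : Bir P'} {N : ℕ} (θ : Theta D N) (θ' : Theta D' N)
    (hU : PushU (Red.bc k X)) {T : Over S'} (x y : T ⟶ Red.bc k X) (hx : x ^ N = 1) (hy : y ^ N = 1)
    (hx' : dn k x ^ N = 1) (hy' : dn k y ^ N = 1) :
    θ'.e x y hx hy = θ.e (T := (Over.map k).obj T) (dn k x) (dn k y) hx' hy' := by
  have hxf : (fst T (Red.bc k X) ≫ x) ^ N = 1 := by rw [← comp_pow', hx, MonObj.comp_one]
  have hxf' : dn k (fst T (Red.bc k X) ≫ x) ^ N = 1 := by rw [← dn_pow, hxf, dn_one]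
  have key : ∀ (x' z' : (Over.map k).obj T ⟶ X) (hx'' : x' ^ N = 1) (z : (Over.map k).obj T ⟶ X), x' = dn k x →
      z' = z → θ.t x' z' hx'' = θ.t (dn k x) z hx' := by
    rintro x' z' hx' z rfl rfl
    rfl
  obtain ⟨a', ha', hioa⟩ := io.lift (T := T ⊗ Red.bc k X) (lift (fst _ _ ≫ x) (snd _ _ ^ N))
    (θ.t (dn k (fst T (Red.bc k X) ≫ x)) (dn k (snd T (Red.bc k X))) hxf')
    (by rw [Theta.pt_t, map_cc, lift_fst, lift_snd, dn_pow])
  -- values
  have hval : ∀ z : T ⟶ Red.bc k X, io.map (P'.res (lift (𝟙 T) z) a') = θ.t (dn k x) (dn k z) hx' := by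
    intro z
    have h0 : ((Over.map k).map (lift (𝟙 T) z) ≫ dn k (fst T (Red.bc k X) ≫ x)) ^ N = 1 := by
      rw [← comp_pow', hxf', MonObj.comp_one]
    rw [io.map_res, hioa, θ.res_t _ _ _ _ h0]
    refine key _ _ _ _ ?_ ?_
    · rw [← dn_comp, lift_fst_assoc, Category.id_comp]
    · rw [← dn_comp, lift_snd]
  have hpt : ∀ z : T ⟶ Red.bc k X, P'.pt (P'.res (lift (𝟙 T) z) a') = lift x (z ^ N) := by
    intro z
    rw [P'.pt_res, ha', comp_lift, lift_fst_assoc, Category.id_comp, comp_pow', lift_snd]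
  obtain ⟨v, hv⟩ := P'.trans (P'.res (lift (𝟙 T) 1) a') (D'.r₂ x) (by rw [hpt, one_pow, D'.pt_r₂])
  have h1 : P'.act (θ'.e x y hx hy) (D'.r₂ x) =
      P'.res (lift (𝟙 T) y) (P'.act (ures (fst T (Red.bc k X)) v⁻¹) a') := by
    apply θ'.act_e_of hU
    · rw [P'.pt_act, ha']
    · rw [P'.res_act, ← ures_comp, lift_fst, ures_id, ← hv, P'.act_inv_act]
  rw [P'.res_act, ← ures_comp, lift_fst, ures_id] at h1
  have h2 := congrArg io.map h1
  rw [io.map_act, io.map_act, hval] at h2
  have h3 := congrArg io.map hv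
  rw [io.map_act, hval, dn_one, θ.t_one_right] at h3
  rw [← θ.act_e _ _ _ hy', ← h3, ← P.act_mul, ← P.act_mul] at h2
  have h4 := P.act_inj _ _ _ h2
  have h6 : ∀ w w' : U ((Over.map k).obj T), w⁻¹ * w' * w = w' := fun w w' => by
    rw [mul_right_comm, inv_mul_cancel, _root_.one_mul]
  exact h4.trans (h6 v _)

/-! ## Arrows -/

theorem nonempty_isCart_base : Nonempty {κ : ob S' (Coh.structureModule S') ⟶ ob S (Coh.structureModule S) //
    κ.base = k ∧ IsCart κ} := by
  have h := pull_mk k (Groth.Agent.Fdesc.LocGen.isInvertible_structureModule (X := S))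
  have h0 : mk (Coh.structureModule S) Groth.Agent.Fdesc.LocGen.isInvertible_structureModule = (1 : Pic S) := rfl
  have h0' : mk (Coh.structureModule S') Groth.Agent.Fdesc.LocGen.isInvertible_structureModule = (1 : Pic S') := rfl
  rw [h0, map_one, ← h0', mk_eq_iff] at h
  obtain ⟨e⟩ := h
  refine ⟨⟨vert e.hom ≫ cart k _, ?_, (IsCart.of_isIso (vert e.hom)).comp (isCart_cart _ _)⟩⟩
  exact Category.id_comp _

/-- A chosen cartesian arrow `(S', O) ⟶ (S, O)`. -/
def bas : ob S' (Coh.structureModule S') ⟶ ob S (Coh.structureModule S) := (nonempty_isCart_base k).some.1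

theorem bas_base : (bas k).base = k := (nonempty_isCart_base k).some.2.1

theorem isCart_bas : IsCart (bas k) := (nonempty_isCart_base k).some.2.2

/-- The cartesian arrow `(T, O_T) ⟶ (S, O)`, through `S'`. -/
def stp (T : Over S') : un T ⟶ ob S (Coh.structureModule S) := cart T.hom (Coh.structureModule S') ≫ bas k

theorem stp_base (T : Over S') : (stp k T).base = T.hom ≫ k := by
  change T.hom ≫ (bas k).base = _
  rw [bas_base]

theorem isCart_stp (T : Over S') : IsCart (stp k T) := (isCart_cart _ _).comp (isCart_bas k)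

theorem unm_stp {T T' : Over S'} (g : T' ⟶ T) : unm g ≫ stp k T = stp k T' := by
  rw [stp, ← Category.assoc, unm_cart]
  rfl

/-- The comparison of the two models of `(T, O_T)`. -/
def cmp (T : Over S') : un ((Over.map k).obj T) ⟶ un T :=
  (isCart_stp k T).lift (a' := un ((Over.map k).obj T)) (𝟙 T.left)
    (cart ((Over.map k).obj T).hom (Coh.structureModule S)) (by
      rw [stp_base]
      exact (Category.id_comp _).symm)

theorem cmp_base (T : Over S') : (cmp k T).base = 𝟙 T.left := (isCart_stp k T).lift_base _ _ _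

theorem cmp_stp (T : Over S') : cmp k T ≫ stp k T = cart ((Over.map k).obj T).hom (Coh.structureModule S) :=
  (isCart_stp k T).lift_comp _ _ _

theorem isCart_cmp (T : Over S') : IsCart (cmp k T) :=
  (isCart_stp k T).of_comp (by rw [cmp_stp]; exact isCart_cart _ _)

instance (T : Over S') : IsIso (cmp k T) := (isCart_cmp k T).isIso (by
  rw [cmp_base]
  exact (inferInstance : IsIso (𝟙 T.left)))

theorem cmp_comp_base (T : Over S') {Y : Scheme.{u}} {N : Y.Modules} (a : un T ⟶ ob Y N) :
    (cmp k T ≫ a).base = a.base := by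
  change (cmp k T).base ≫ a.base = _
  rw [cmp_base]
  exact Category.id_comp _

theorem unm_cmp {T T' : Over S'} (g : T' ⟶ T) : unm ((Over.map k).map g) ≫ cmp k T = cmp k T' ≫ unm g := by
  apply (isCart_stp k T).ext
  · change (unm ((Over.map k).map g)).base ≫ (cmp k T).base = (cmp k T').base ≫ (unm g).base
    rw [unm_base, unm_base, cmp_base, cmp_base]
    exact (Category.comp_id _).trans (Category.id_comp _).symm
  · rw [Category.assoc, Category.assoc, cmp_stp, unm_cart, unm_stp, cmp_stp]

/-- A cartesian arrow over a base change gives a cartesian map of torsors. -/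
def GBc.ofArr {X' : Over S'} {X : Over S} {M' : X'.left.Modules} {M : X.left.Modules} (c : (Over.map k).obj X' ⟶ X)
    (φ : ob X'.left M' ⟶ ob X.left M) (hφ : IsCart φ) (hb : φ.base = c.left) :
    GBc k (GTor.ofMod X' M') (GTor.ofMod X M) c where
  map {T} a := ⟨cmp k T ≫ a.1 ≫ φ, (isCart_cmp k T).comp (a.2.1.comp hφ), by
    have h1 : (cmp k T ≫ a.1 ≫ φ).base = a.1.base ≫ c.left := by
      rw [cmp_comp_base, ← hb]
      rfl
    rw [h1, Category.assoc, Over.w]
    change a.1.base ≫ X'.hom ≫ k = T.hom ≫ k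
    rw [← Category.assoc, a.2.2]⟩
  pt_map {T} a := by
    apply Over.OverMorphism.ext
    change (cmp k T ≫ a.1 ≫ φ).base = a.1.base ≫ c.left
    rw [cmp_comp_base, ← hb]
    rfl
  map_res {T T'} g a := Subtype.ext (by
    change cmp k T' ≫ (unm g ≫ a.1) ≫ φ = unm ((Over.map k).map g) ≫ cmp k T ≫ a.1 ≫ φ
    rw [← Category.assoc (unm _), unm_cmp, Category.assoc, Category.assoc])
  map_act {T} v a := Subtype.ext (by
    change cmp k T ≫ (muU _ v ≫ a.1) ≫ φ = muU _ v ≫ cmp k T ≫ a.1 ≫ φ
    have h : cmp k T ≫ muU _ v = muU (X := T.left) _ v ≫ cmp k T := by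
      rw [muU, mu_nat]
      congr 2
      rw [cmp_base]
      change (Scheme.Hom.appTop (𝟙 T.left)) (v : Γ(T.left, ⊤)) = _
      rw [Scheme.Hom.id_appTop]
      rfl
    rw [Category.assoc, ← Category.assoc, h, Category.assoc])
  lift {T} z a h := by
    have hz : a.1.base = z.left ≫ φ.base := by
      have := congrArg (fun z => z.left) h
      change a.1.base = z.left ≫ c.left at this
      rw [this, hb]
    have hi : (inv (cmp k T)).base = 𝟙 T.left := by
      have h1 : (inv (cmp k T) ≫ cmp k T).base = 𝟙 T.left := by rw [IsIso.inv_hom_id]; rfl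
      change (inv (cmp k T)).base ≫ (cmp k T).base = _ at h1
      rw [cmp_base] at h1
      exact (Category.comp_id _).symm.trans h1
    let χ : un T ⟶ ob X'.left M' := hφ.lift (a' := un T) z.left (inv (cmp k T) ≫ a.1) (by
      change (inv (cmp k T)).base ≫ a.1.base = _
      rw [hi, hz]
      exact Category.id_comp _)
    have h1 : χ.base = z.left := hφ.lift_base _ _ _
    have h2 : χ ≫ φ = inv (cmp k T) ≫ a.1 := hφ.lift_comp _ _ _
    refine ⟨⟨χ, hφ.of_comp (by rw [h2]; exact (IsCart.of_isIso _).comp a.2.1), ?_⟩, ?_, ?_⟩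
    · rw [h1, Over.w]
    · apply Over.OverMorphism.ext
      exact h1
    · apply Subtype.ext
      change cmp k T ≫ χ ≫ φ = a.1
      rw [h2, IsIso.hom_inv_id_assoc]

end K270.MB
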