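import Groth.Agent.GrpSch.K270.MB.Closed

/-!
# Base change of the pairing along an arbitrary multiplicative map over a base change

`q : X' ⟶ X` over `k : S' ⟶ S`, compatible with products of points.
-/

set_option autoImplicit false
universe u
open CategoryTheory CategoryTheory.Limits MonoidalCategory CartesianMonoidalCategory MonObj AlgebraicGeometry
open K999.Cart K999.EDesc K999.Scal Groth.Agent.Grpsch.PicGrp K529.KL

noncomputable section

namespace K270.MB

variable {S S' : Scheme.{u}} (k : S' ⟶ S) {X' : Over S'} {X : Over S} (q : (Over.map k).obj X' ⟶ X)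

/-- The image of a point. -/
abbrev dq {T : Over S'} (x : T ⟶ X') : (Over.map k).obj T ⟶ X := (Over.map k).map x ≫ q

theorem dq_comp {T T' : Over S'} (g : T' ⟶ T) (x : T ⟶ X') : dq k q (g ≫ x) = (Over.map k).map g ≫ dq k q x := by
  rw [dq, Functor.map_comp, Category.assoc]

/-- The map of the products. -/
abbrev cq : (Over.map k).obj (X' ⊗ X') ⟶ X ⊗ X := lift (dq k q (fst X' X')) (dq k q (snd X' X'))

theorem map_cq {T : Over S'} (z : T ⟶ X' ⊗ X') :
    (Over.map k).map z ≫ cq k q = lift (dq k q (z ≫ fst _ _)) (dq k q (z ≫ snd _ _)) := by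
  rw [comp_lift, dq_comp, dq_comp]

section Mul

variable [GrpObj X'] [GrpObj X]
  (hmul : ∀ {T : Over S'} (a b : T ⟶ X'), dq k q (a * b) = dq k q a * dq k q b)

include hmul in
theorem dq_one {T : Over S'} : dq k q (1 : T ⟶ X') = 1 := by
  have h := hmul (1 : T ⟶ X') 1
  rw [_root_.mul_one] at h
  exact left_eq_mul.mp h

include hmul in
theorem dq_pow {T : Over S'} (x : T ⟶ X') (n : ℕ) : dq k q (x ^ n) = dq k q x ^ n := by
  induction n with
  | zero => rw [pow_zero, pow_zero, dq_one k q hmul]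
  | succ n ih => rw [pow_succ, pow_succ, hmul, ih]

include hmul in
/-- The pairings over `S'` and over `S` agree. -/
theorem Theta.e_bq {P : GTor (X ⊗ X)} {P' : GTor (X' ⊗ X')}
    (io : GBc k P' P (cq k q)) {D : Bir P} {D' : Bir P'} {N : ℕ} (θ : Theta D N) (θ' : Theta D' N)
    (hU : PushU X') {T : Over S'} (x y : T ⟶ X') (hx : x ^ N = 1) (hy : y ^ N = 1)
    (hx' : dq k q x ^ N = 1) (hy' : dq k q y ^ N = 1) :
    θ'.e x y hx hy = θ.e (T := (Over.map k).obj T) (dq k q x) (dq k q y) hx' hy' := by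
  have hxf : (fst T X' ≫ x) ^ N = 1 := by rw [← comp_pow', hx, MonObj.comp_one]
  have hxf' : dq k q (fst T X' ≫ x) ^ N = 1 := by rw [← dq_pow k q hmul, hxf, dq_one k q hmul]
  have key : ∀ (x' z' : (Over.map k).obj T ⟶ X) (hx'' : x' ^ N = 1) (z : (Over.map k).obj T ⟶ X), x' = dq k q x →
      z' = z → θ.t x' z' hx'' = θ.t (dq k q x) z hx' := by
    rintro x' z' hx' z rfl rfl
    rfl
  obtain ⟨a', ha', hioa⟩ := io.lift (T := T ⊗ X') (lift (fst _ _ ≫ x) (snd _ _ ^ N))
    (θ.t (dq k q (fst T X' ≫ x)) (dq k q (snd T X')) hxf')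
    (by rw [Theta.pt_t, map_cq, lift_fst, lift_snd, dq_pow k q hmul])
  -- values
  have hval : ∀ z : T ⟶ X', io.map (P'.res (lift (𝟙 T) z) a') = θ.t (dq k q x) (dq k q z) hx' := by
    intro z
    have h0 : ((Over.map k).map (lift (𝟙 T) z) ≫ dq k q (fst T X' ≫ x)) ^ N = 1 := by
      rw [← comp_pow', hxf', MonObj.comp_one]
    rw [io.map_res, hioa, θ.res_t _ _ _ _ h0]
    refine key _ _ _ _ ?_ ?_
    · rw [← dq_comp, lift_fst_assoc, Category.id_comp]
    · rw [← dq_comp, lift_snd]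
  have hpt : ∀ z : T ⟶ X', P'.pt (P'.res (lift (𝟙 T) z) a') = lift x (z ^ N) := by
    intro z
    rw [P'.pt_res, ha', comp_lift, lift_fst_assoc, Category.id_comp, comp_pow', lift_snd]
  obtain ⟨v, hv⟩ := P'.trans (P'.res (lift (𝟙 T) 1) a') (D'.r₂ x) (by rw [hpt, one_pow, D'.pt_r₂])
  have h1 : P'.act (θ'.e x y hx hy) (D'.r₂ x) =
      P'.res (lift (𝟙 T) y) (P'.act (ures (fst T X') v⁻¹) a') := by
    apply θ'.act_e_of hU
    · rw [P'.pt_act, ha']
    · rw [P'.res_act, ← ures_comp, lift_fst, ures_id, ← hv, P'.act_inv_act]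
  rw [P'.res_act, ← ures_comp, lift_fst, ures_id] at h1
  have h2 := congrArg io.map h1
  rw [io.map_act, io.map_act, hval] at h2
  have h3 := congrArg io.map hv
  rw [io.map_act, hval, dq_one k q hmul, θ.t_one_right] at h3
  rw [← θ.act_e _ _ _ hy', ← h3, ← P.act_mul, ← P.act_mul] at h2
  have h4 := P.act_inj _ _ _ h2
  have h6 : ∀ w w' : U ((Over.map k).obj T), w⁻¹ * w' * w = w' := fun w w' => by
    rw [mul_right_comm, inv_mul_cancel, _root_.one_mul]
  exact h4.trans (h6 v _)

end Mul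

end K270.MB
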