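import Groth.Agent.GrpSch.K270.MB.Bc

/-!
# The pairing on the closed fibre

`e_closed`: let `X` over `S` have a theta datum, `k : S' ⟶ S`, `π : X' ⟶ B` a homomorphism from the base change `X'` of `X` to
an `S'`-group with a theta datum, and suppose that the two torsors have isomorphic restrictions to `X' × X'`.  If the
invertible functions on `X' × X'` which are one on both axes are one, then `e(x, y) = e_B(π x, π y)`.
-/

set_option autoImplicit false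
universe u
open CategoryTheory CategoryTheory.Limits MonoidalCategory CartesianMonoidalCategory MonObj AlgebraicGeometry
open K999.Cart K999.EDesc K999.Scal Groth.Agent.Grpsch.PicGrp K529.KL

noncomputable section

namespace K270.MB

theorem pow_comp' {S : Scheme.{u}} {X Y T : Over S} [GrpObj X] [GrpObj Y] (x : T ⟶ X) (f : X ⟶ Y) [IsMonHom f]
    (n : ℕ) : (x ^ n) ≫ f = (x ≫ f) ^ n := by
  induction n with
  | zero => rw [pow_zero, pow_zero, MonObj.one_comp]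
  | succ n ih => rw [pow_succ, pow_succ, MonObj.mul_comp, ih]

theorem GBc.ext {S S' : Scheme.{u}} {k : S' ⟶ S} {X' : Over S'} {X : Over S} {P' : GTor X'} {P : GTor X}
    {c : (Over.map k).obj X' ⟶ X} (io : GBc k P' P c) {T : Over S'} {a a' : P'.obj T} (hp : P'.pt a = P'.pt a')
    (h : io.map a = io.map a') : a = a' := by
  obtain ⟨v, rfl⟩ := P'.trans a a' hp
  rw [io.map_act] at h
  have h1 : P.act (T := (Over.map k).obj T) v (io.map a') = P.act (T := (Over.map k).obj T) 1 (io.map a') := by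
    rw [h, P.act_one]
  have h2 : v = 1 := P.act_inj _ _ _ h1
  rw [h2, P'.act_one]

/-- Functions which are one on both axes are one. -/
def AxesU {S : Scheme.{u}} (X : Over S) [GrpObj X] : Prop :=
  ∀ v : U (X ⊗ X), ures (lift 1 (𝟙 X)) v = 1 → ures (lift (𝟙 X) 1) v = 1 → v = 1

variable {S S' : Scheme.{u}} (k : S' ⟶ S) {X : Over S} [GrpObj X]

theorem cc_powL (N : ℕ) : (Over.map k).map (powL (Red.bc k X) N) ≫ cc k X = cc k X ≫ powL X N := by
  rw [map_cc, lift_fst, lift_snd, lift_powL, dn_pow]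

theorem cc_powR (N : ℕ) : (Over.map k).map (powR (Red.bc k X) N) ≫ cc k X = cc k X ≫ powR X N := by
  rw [map_cc, lift_fst, lift_snd, lift_powR, dn_pow]

theorem powL_map {S : Scheme.{u}} {X B : Over S} [GrpObj X] [GrpObj B] (π : X ⟶ B) [IsMonHom π] (N : ℕ) :
    powL X N ≫ (π ⊗ₘ π) = (π ⊗ₘ π) ≫ powL B N := by
  rw [lift_map, pow_comp', comp_lift, comp_pow', tensorHom_fst, tensorHom_snd]

theorem powR_map {S : Scheme.{u}} {X B : Over S} [GrpObj X] [GrpObj B] (π : X ⟶ B) [IsMonHom π] (N : ℕ) :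
    powR X N ≫ (π ⊗ₘ π) = (π ⊗ₘ π) ≫ powR B N := by
  rw [lift_map, pow_comp', comp_lift, comp_pow', tensorHom_fst, tensorHom_snd]

/-- A cartesian arrow and its normalisation: `ψ` agrees with both rigidifications. -/
theorem exists_normalised {P : (X ⊗ X).left.Modules} {P' : (Red.bc k X ⊗ Red.bc k X).left.Modules}
    (D : Bir (GTor.ofMod (X ⊗ X) P))
    (φ : ob (Red.bc k X ⊗ Red.bc k X).left P' ⟶ ob (X ⊗ X).left P) (hφ : IsCart φ) (hφb : φ.base = (cc k X).left)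
    {B : Over S'} [GrpObj B] (π : Red.bc k X ⟶ B) [IsMonHom π] {Q : (B ⊗ B).left.Modules}
    (DB : Bir (GTor.ofMod (B ⊗ B) Q)) (ψ : ob (Red.bc k X ⊗ Red.bc k X).left P' ⟶ ob (B ⊗ B).left Q) (hψ : IsCart ψ)
    (hψb : ψ.base = (π ⊗ₘ π).left) :
    ∃ (ψ : ob (Red.bc k X ⊗ Red.bc k X).left P' ⟶ ob (B ⊗ B).left Q) (hψ : IsCart ψ) (hψb : ψ.base = (π ⊗ₘ π).left)
      (a₁ a₂ : (GTor.ofMod (Red.bc k X ⊗ Red.bc k X) P').obj (Red.bc k X)),
      (GTor.ofMod (Red.bc k X ⊗ Red.bc k X) P').pt a₁ = lift 1 (𝟙 _) ∧ (GTor.ofMod (Red.bc k X ⊗ Red.bc k X) P').pt a₂ = lift (𝟙 _) 1 ∧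
      (GBc.ofArr k (cc k X) φ hφ hφb).map a₁ = D.r₁ (dn k (𝟙 _)) ∧
      (GBc.ofArr k (cc k X) φ hφ hφb).map a₂ = D.r₂ (dn k (𝟙 _)) ∧
      (GHom.ofArr (π ⊗ₘ π) ψ hψ hψb).map a₁ = DB.r₁ π ∧ (GHom.ofArr (π ⊗ₘ π) ψ hψ hψb).map a₂ = DB.r₂ π := by
  let io := GBc.ofArr k (cc k X) φ hφ hφb
  let f := GHom.ofArr (π ⊗ₘ π) ψ hψ hψb
  obtain ⟨a₁, h1, h1'⟩ := io.lift (T := Red.bc k X) (lift 1 (𝟙 _)) (D.r₁ (dn k (𝟙 _)))
    (by rw [D.pt_r₁, map_cc, lift_fst, lift_snd, dn_one])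
  obtain ⟨a₂, h2, h2'⟩ := io.lift (T := Red.bc k X) (lift (𝟙 _) 1) (D.r₂ (dn k (𝟙 _)))
    (by rw [D.pt_r₂, map_cc, lift_fst, lift_snd, dn_one])
  obtain ⟨v₁, hv₁⟩ := (GTor.ofMod (B ⊗ B) Q).trans (f.map a₁) (DB.r₁ π)
    (by rw [f.pt_map, h1, lift_map, MonObj.one_comp, Category.id_comp, DB.pt_r₁])
  obtain ⟨v₂, hv₂⟩ := (GTor.ofMod (B ⊗ B) Q).trans (f.map a₂) (DB.r₂ π)
    (by rw [f.pt_map, h2, lift_map, MonObj.one_comp, Category.id_comp, DB.pt_r₂])
  have hη : (GTor.ofMod (Red.bc k X ⊗ Red.bc k X) P').res (η : 𝟙_ (Over S') ⟶ Red.bc k X) a₁ = (GTor.ofMod (Red.bc k X ⊗ Red.bc k X) P').res η a₂ := by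
    apply io.ext
    · rw [GTor.pt_res, GTor.pt_res, h1, h2, comp_lift, comp_lift, MonObj.comp_one, Category.comp_id, η_eq_one]
    · rw [io.map_res, io.map_res, h1', h2', D.res_r₁, D.res_r₂, ← dn_comp, Category.comp_id, η_eq_one, dn_one,
        D.r_one]
  have hv : ures (η : 𝟙_ (Over S') ⟶ Red.bc k X) v₁ = ures η v₂ := by
    have h := congrArg f.map hη
    have hη1 : (η : 𝟙_ (Over S') ⟶ Red.bc k X) ≫ π = 1 := by rw [η_eq_one, MonObj.one_comp]
    rw [f.map_res, f.map_res, ← hv₁, ← hv₂, GTor.res_act, GTor.res_act, DB.res_r₁, DB.res_r₂, hη1, DB.r_one] at h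
    exact (GTor.ofMod (B ⊗ B) Q).act_inj _ _ _ h
  let v : U (Red.bc k X ⊗ Red.bc k X) := (ures (fst _ _) v₂ * ures (snd _ _) v₁ *
    (ures (toUnit _) (ures (η : 𝟙_ (Over S') ⟶ Red.bc k X) v₁))⁻¹)⁻¹
  have e1 : ures (lift 1 (𝟙 (Red.bc k X))) v = v₁⁻¹ := by
    have h : ∀ {T : Over S'} (w : U (Red.bc k X)), ures (1 : T ⟶ Red.bc k X) w =
        ures (toUnit T) (ures (η : 𝟙_ (Over S') ⟶ Red.bc k X) w) := by
      intro T w
      rw [← ures_comp]
      rfl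
    rw [map_inv, map_mul, map_mul, map_inv, ← ures_comp, ← ures_comp, ← ures_comp, lift_fst, lift_snd, ures_id,
      toUnit_unique (lift 1 (𝟙 (Red.bc k X)) ≫ toUnit _) (toUnit _), h, hv, mul_comm _ v₁, mul_inv_cancel_right]
  have e2 : ures (lift (𝟙 (Red.bc k X)) 1) v = v₂⁻¹ := by
    have h : ∀ {T : Over S'} (w : U (Red.bc k X)), ures (1 : T ⟶ Red.bc k X) w =
        ures (toUnit T) (ures (η : 𝟙_ (Over S') ⟶ Red.bc k X) w) := by
      intro T w
      rw [← ures_comp]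
      rfl
    rw [map_inv, map_mul, map_mul, map_inv, ← ures_comp, ← ures_comp, ← ures_comp, lift_fst, lift_snd, ures_id,
      toUnit_unique (lift (𝟙 (Red.bc k X)) 1 ≫ toUnit _) (toUnit _), h, mul_inv_cancel_right]
  have hψ' : IsCart (muU P' v ≫ ψ) := (isCart_muU P' v).comp hψ
  have hψb' : (muU P' v ≫ ψ).base = (π ⊗ₘ π).left := by
    change 𝟙 _ ≫ ψ.base = _
    rw [Category.id_comp, hψb]
  refine ⟨muU P' v ≫ ψ, hψ', hψb', a₁, a₂, h1, h2, h1', h2', ?_, ?_⟩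
  · rw [ofArr_muU (π ⊗ₘ π) ψ hψ hψb v hψ' hψb', h1, e1]
    change (GTor.ofMod (B ⊗ B) Q).act _ (f.map a₁) = _
    rw [← hv₁, GTor.act_inv_act]
  · rw [ofArr_muU (π ⊗ₘ π) ψ hψ hψb v hψ' hψb', h2, e2]
    change (GTor.ofMod (B ⊗ B) Q).act _ (f.map a₂) = _
    rw [← hv₂, GTor.act_inv_act]

/-- The pairing on the closed fibre. -/
theorem e_closed {P : (X ⊗ X).left.Modules} {P' : (Red.bc k X ⊗ Red.bc k X).left.Modules}
    (D : Bir (GTor.ofMod (X ⊗ X) P))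
    (φ : ob (Red.bc k X ⊗ Red.bc k X).left P' ⟶ ob (X ⊗ X).left P) (hφ : IsCart φ) (hφb : φ.base = (cc k X).left)
    {B : Over S'} [GrpObj B] (π : Red.bc k X ⟶ B) [IsMonHom π] {Q : (B ⊗ B).left.Modules}
    (DB : Bir (GTor.ofMod (B ⊗ B) Q)) (ψ : ob (Red.bc k X ⊗ Red.bc k X).left P' ⟶ ob (B ⊗ B).left Q) (hψ : IsCart ψ)
    (hψb : ψ.base = (π ⊗ₘ π).left) {N : ℕ} (θ : ATheta D N) (θB : ATheta DB N) (hA : AxesU (Red.bc k X))
    {T : Over S'} (x y : T ⟶ Red.bc k X) (hx : x ^ N = 1) (hy : y ^ N = 1)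
    (hx' : dn k x ^ N = 1) (hy' : dn k y ^ N = 1) (hx'' : (x ≫ π) ^ N = 1) (hy'' : (y ≫ π) ^ N = 1) :
    θB.toTheta.e (x ≫ π) (y ≫ π) hx'' hy'' =
      θ.toTheta.e (T := (Over.map k).obj T) (dn k x) (dn k y) hx' hy' := by
  obtain ⟨ψ, hψ, hψb, a₁, a₂, h1, h2, h1', h2', h1'', h2''⟩ := exists_normalised k D φ hφ hφb π DB ψ hψ hψb
  let io := GBc.ofArr k (cc k X) φ hφ hφb
  let f := GHom.ofArr (π ⊗ₘ π) ψ hψ hψb
  -- the restriction of `W`
  let W' : (Red.bc k X ⊗ Red.bc k X).left.Modules := (Scheme.Modules.pullback (cc k X).left).obj θ.W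
  let φW : ob (Red.bc k X ⊗ Red.bc k X).left W' ⟶ ob (X ⊗ X).left θ.W := cart (cc k X).left θ.W
  have hφW : IsCart φW := isCart_cart _ _
  have hW' : PicF.IsInvertible W' := Groth.Agent.Fdesc.LocGen.isInvertible_pullback _ θ.inv
  let ioW := GBc.ofArr k (cc k X) φW hφW rfl
  have ebL : (φW ≫ θ.a).base = (powL (Red.bc k X) N).left ≫ φ.base := by
    change (cc k X).left ≫ θ.a.base = _
    rw [θ.hab, hφb]
    exact congrArg (fun z => z.left) (cc_powL k (X := X) N).symm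
  have ebR : (φW ≫ θ.b).base = (powR (Red.bc k X) N).left ≫ φ.base := by
    change (cc k X).left ≫ θ.b.base = _
    rw [θ.hbb, hφb]
    exact congrArg (fun z => z.left) (cc_powR k (X := X) N).symm
  let a' : ob (Red.bc k X ⊗ Red.bc k X).left W' ⟶ ob (Red.bc k X ⊗ Red.bc k X).left P' :=
    hφ.lift (a' := ob (Red.bc k X ⊗ Red.bc k X).left W') (powL (Red.bc k X) N).left (φW ≫ θ.a) ebL
  have hab' : a'.base = (powL (Red.bc k X) N).left := hφ.lift_base _ _ _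
  have ha'φ : a' ≫ φ = φW ≫ θ.a := hφ.lift_comp _ _ _
  have ha' : IsCart a' := hφ.of_comp (by rw [ha'φ]; exact hφW.comp θ.ha)
  let b' : ob (Red.bc k X ⊗ Red.bc k X).left W' ⟶ ob (Red.bc k X ⊗ Red.bc k X).left P' :=
    hφ.lift (a' := ob (Red.bc k X ⊗ Red.bc k X).left W') (powR (Red.bc k X) N).left (φW ≫ θ.b) ebR
  have hbb' : b'.base = (powR (Red.bc k X) N).left := hφ.lift_base _ _ _
  have hb'φ : b' ≫ φ = φW ≫ θ.b := hφ.lift_comp _ _ _
  have hb' : IsCart b' := hφ.of_comp (by rw [hb'φ]; exact hφW.comp θ.hb)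
  let α' := GHom.ofArr (powL (Red.bc k X) N) a' ha' hab'
  let β' := GHom.ofArr (powR (Red.bc k X) N) b' hb' hbb'
  let α := θ.toTheta.α
  let β := θ.toTheta.β
  have hα : ∀ {T : Over S'} (w : (GTor.ofMod (Red.bc k X ⊗ Red.bc k X) W').obj T), io.map (α'.map w) = α.map (ioW.map w) := by
    intro T w
    apply Subtype.ext
    change cmp k T ≫ (w.1 ≫ a') ≫ φ = (cmp k T ≫ w.1 ≫ φW) ≫ θ.a
    simp only [Category.assoc]
    rw [ha'φ]
  have hβ : ∀ {T : Over S'} (w : (GTor.ofMod (Red.bc k X ⊗ Red.bc k X) W').obj T), io.map (β'.map w) = β.map (ioW.map w) := by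
    intro T w
    apply Subtype.ext
    change cmp k T ≫ (w.1 ≫ b') ≫ φ = (cmp k T ≫ w.1 ≫ φW) ≫ θ.b
    simp only [Category.assoc]
    rw [hb'φ]
  -- the map to the theta datum of `B`
  have ecL : (a' ≫ ψ).base = (π ⊗ₘ π).left ≫ θB.a.base := by
    change a'.base ≫ ψ.base = _
    rw [hab', hψb, θB.hab]
    exact congrArg (fun z => z.left) (powL_map π N)
  let ψW : ob (Red.bc k X ⊗ Red.bc k X).left W' ⟶ ob (B ⊗ B).left θB.W :=
    θB.ha.lift (a' := ob (Red.bc k X ⊗ Red.bc k X).left W') (π ⊗ₘ π).left (a' ≫ ψ) ecL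
  have hψWb : ψW.base = (π ⊗ₘ π).left := θB.ha.lift_base _ _ _
  have hψWa : ψW ≫ θB.a = a' ≫ ψ := θB.ha.lift_comp _ _ _
  have hψW : IsCart ψW := θB.ha.of_comp (by rw [hψWa]; exact ha'.comp hψ)
  let fW := GHom.ofArr (π ⊗ₘ π) ψW hψW hψWb
  let αB := θB.toTheta.α
  let βB := θB.toTheta.β
  have hαB : ∀ {T : Over S'} (w : (GTor.ofMod (Red.bc k X ⊗ Red.bc k X) W').obj T), αB.map (fW.map w) = f.map (α'.map w) := by
    intro T w
    apply Subtype.ext
    change (w.1 ≫ ψW) ≫ θB.a = (w.1 ≫ a') ≫ ψ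
    simp only [Category.assoc]
    rw [hψWa]
  obtain ⟨u, hu⟩ := exists_muU hW' (hψW.comp θB.hb) (hb'.comp hψ) (by
    change ψW.base ≫ θB.b.base = b'.base ≫ ψ.base
    rw [hψWb, θB.hbb, hbb', hψb]
    exact congrArg (fun z => z.left) (powR_map π N).symm)
  have hβB : ∀ {T : Over S'} (w : (GTor.ofMod (Red.bc k X ⊗ Red.bc k X) W').obj T), βB.map (fW.map w) =
      (GTor.ofMod (B ⊗ B) Q).act (ures ((GTor.ofMod (Red.bc k X ⊗ Red.bc k X) W').pt w) u) (f.map (β'.map w)) := by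
    intro T w
    apply Subtype.ext
    change (w.1 ≫ ψW) ≫ θB.b = muU _ (ures ((GTor.ofMod (Red.bc k X ⊗ Red.bc k X) W').pt w) u) ≫ (w.1 ≫ b') ≫ ψ
    rw [Category.assoc, ← hu, ← Category.assoc, muU, mu_nat, Category.assoc, Category.assoc]
    rfl
  -- points of `W'` over the axes
  have hax₁ : ∀ (w : (GTor.ofMod (Red.bc k X ⊗ Red.bc k X) W').obj (Red.bc k X)), (GTor.ofMod (Red.bc k X ⊗ Red.bc k X) W').pt w = lift 1 (𝟙 _) → α'.map w = a₁ →
      β'.map w = (GTor.ofMod (Red.bc k X ⊗ Red.bc k X) P').res (𝟙 _ ^ N) a₁ := by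
    intro w hw hwa
    apply io.ext
    · rw [β'.pt_map, hw, GTor.pt_res, h1, lift_powR, comp_lift, MonObj.comp_one, Category.comp_id]
    · rw [hβ, io.map_res, h1', D.res_r₁, ← dn_comp, Category.comp_id]
      have := θ.h₁ (dn k (𝟙 (Red.bc k X))) (ioW.map w) (by
        rw [ioW.pt_map, hw, map_cc, lift_fst, lift_snd, dn_one]) (by
        change α.map (ioW.map w) = _
        rw [← hα, hwa, h1'])
      rw [dn_pow]
      exact this
  have hax₂ : ∀ (w : (GTor.ofMod (Red.bc k X ⊗ Red.bc k X) W').obj (Red.bc k X)), (GTor.ofMod (Red.bc k X ⊗ Red.bc k X) W').pt w = lift (𝟙 _) 1 →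
      α'.map w = (GTor.ofMod (Red.bc k X ⊗ Red.bc k X) P').res (𝟙 _ ^ N) a₂ → β'.map w = a₂ := by
    intro w hw hwa
    apply io.ext
    · rw [β'.pt_map, hw, h2, lift_powR, one_pow]
    · rw [hβ, h2']
      exact θ.h₂ (dn k (𝟙 (Red.bc k X))) (ioW.map w) (by
        rw [ioW.pt_map, hw, map_cc, lift_fst, lift_snd, dn_one]) (by
        change α.map (ioW.map w) = _
        rw [← hα, hwa, io.map_res, h2', D.res_r₂, ← dn_comp, Category.comp_id, dn_pow])
  have hu₁ : ures (lift 1 (𝟙 (Red.bc k X))) u = 1 := by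
    obtain ⟨w, hw, hwa⟩ := α'.lift (lift 1 (𝟙 (Red.bc k X))) a₁ (by rw [h1, lift_powL, one_pow])
    have e1 := hβB w
    rw [hw, hax₁ w hw hwa, f.map_res, h1'', DB.res_r₁] at e1
    have e2 : βB.map (fW.map w) = DB.r₁ (π ^ N) := θB.h₁ π (fW.map w) (by
      rw [fW.pt_map, hw, lift_map, MonObj.one_comp, Category.id_comp]) (by
      change αB.map (fW.map w) = _
      rw [hαB, hwa, h1''])
    rw [e2, pow_comp', Category.id_comp] at e1
    refine (GTor.ofMod (B ⊗ B) Q).act_inj _ _ (DB.r₁ (π ^ N)) ?_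
    rw [← e1, GTor.act_one]
  have hu₂ : ures (lift (𝟙 (Red.bc k X)) 1) u = 1 := by
    obtain ⟨w, hw, hwa⟩ := α'.lift (lift (𝟙 (Red.bc k X)) 1) ((GTor.ofMod (Red.bc k X ⊗ Red.bc k X) P').res (𝟙 _ ^ N) a₂) (by
      rw [GTor.pt_res, h2, comp_lift, MonObj.comp_one, Category.comp_id, lift_powL])
    have e1 := hβB w
    rw [hw, hax₂ w hw hwa, h2''] at e1
    have e2 : βB.map (fW.map w) = DB.r₂ π := θB.h₂ π (fW.map w) (by
      rw [fW.pt_map, hw, lift_map, MonObj.one_comp, Category.id_comp]) (by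
      change αB.map (fW.map w) = _
      rw [hαB, hwa, f.map_res, h2'', DB.res_r₂, pow_comp', Category.id_comp])
    rw [e2] at e1
    refine (GTor.ofMod (B ⊗ B) Q).act_inj _ _ (DB.r₂ π) ?_
    rw [← e1, GTor.act_one]
  have hu1 : u = 1 := hA u hu₁ hu₂
  -- conclusion
  obtain ⟨w, hw, hwa⟩ := α'.lift (lift x y) ((GTor.ofMod (Red.bc k X ⊗ Red.bc k X) P').res y a₁) (by
    rw [GTor.pt_res, h1, comp_lift, MonObj.comp_one, Category.comp_id, lift_powL, hx])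
  have g1 : θ.toTheta.t (dn k x) (dn k y) hx' = β.map (ioW.map w) := by
    apply θ.toTheta.t_eq hx'
    · refine (ioW.pt_map w).trans ?_
      rw [hw, map_cc, lift_fst, lift_snd]
    · refine (hα w).symm.trans ?_
      rw [hwa, io.map_res, h1', D.res_r₁, ← dn_comp, Category.comp_id]
  rw [← hβ] at g1
  have g2 : β'.map w = (GTor.ofMod (Red.bc k X ⊗ Red.bc k X) P').act (θ.toTheta.e (T := (Over.map k).obj T) (dn k x) (dn k y) hx' hy')
      ((GTor.ofMod (Red.bc k X ⊗ Red.bc k X) P').res x a₂) := by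
    apply io.ext
    · rw [β'.pt_map, hw, GTor.pt_act, GTor.pt_res, h2, lift_powR, hy, comp_lift, MonObj.comp_one, Category.comp_id]
    · rw [← g1, ← θ.toTheta.act_e _ _ _ hy', io.map_act, io.map_res, h2', D.res_r₂, ← dn_comp, Category.comp_id]
  apply θB.toTheta.e_eq
  have g3 : θB.toTheta.t (x ≫ π) (y ≫ π) hx'' = βB.map (fW.map w) := by
    apply θB.toTheta.t_eq hx''
    · refine (fW.pt_map w).trans ?_
      rw [hw, lift_map]
    · refine (hαB w).trans ?_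
      rw [hwa, f.map_res, h1'', DB.res_r₁]
  rw [g3, hβB, hu1, map_one, GTor.act_one, g2, f.map_act, f.map_res, h2'', DB.res_r₂]

end K270.MB
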