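import Groth.Agent.GrpSch.K270.MB.GTor

/-!
# The pairing `e_N` of a birigidified torsor
-/

set_option autoImplicit false
universe u
open CategoryTheory CategoryTheory.Limits MonoidalCategory CartesianMonoidalCategory MonObj AlgebraicGeometry

noncomputable section

namespace K270.MB

variable {S : Scheme.{u}} {X : Over S}

/-- The exchange of the factors. -/
abbrev sw (X : Over S) : X ⊗ X ⟶ X ⊗ X := lift (snd X X) (fst X X)

theorem lift_sw {T : Over S} (x y : T ⟶ X) : lift x y ≫ sw X = lift y x := by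
  rw [comp_lift, lift_fst, lift_snd]

theorem sw_sw (X : Over S) : sw X ≫ sw X = 𝟙 _ := by
  rw [lift_sw]
  exact lift_fst_snd

/-- Exchange of the factors. -/
def GTor.op (P : GTor (X ⊗ X)) : GTor (X ⊗ X) where
  obj := P.obj
  pt a := P.pt a ≫ sw X
  res := P.res
  act := P.act
  pt_res g a := by rw [P.pt_res, Category.assoc]
  pt_act v a := by rw [P.pt_act]
  res_id := P.res_id
  res_comp := P.res_comp
  act_one := P.act_one
  act_mul := P.act_mul
  res_act := P.res_act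
  act_inj := P.act_inj
  trans a b h := P.trans a b (by
    have := congrArg (· ≫ sw X) h
    simpa only [Category.assoc, sw_sw, Category.comp_id] using this)

variable [GrpObj X]

theorem powL_sw (N : ℕ) : powL X N ≫ sw X = sw X ≫ powR X N := by
  rw [lift_sw, lift_powR]

theorem powR_sw (N : ℕ) : powR X N ≫ sw X = sw X ≫ powL X N := by
  rw [lift_sw, lift_powL]

/-- The `GHom` between opposites. -/
def GHom.opR {W P : GTor (X ⊗ X)} {N : ℕ} (β : GHom W P (powR X N)) : GHom W.op P.op (powL X N) where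
  map := β.map
  pt_map w := by
    change P.pt (β.map w) ≫ sw X = (W.pt w ≫ sw X) ≫ powL X N
    rw [β.pt_map, Category.assoc, Category.assoc, powR_sw]
  map_res := β.map_res
  map_act := β.map_act
  lift z a h := by
    obtain ⟨w, hw, h'⟩ := β.lift (z ≫ sw X) a (by
      have := congrArg (· ≫ sw X) h
      change (P.pt a ≫ sw X) ≫ sw X = (z ≫ powL X N) ≫ sw X at this
      rwa [Category.assoc, sw_sw, Category.comp_id, Category.assoc, powL_sw, ← Category.assoc] at this)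
    refine ⟨w, ?_, h'⟩
    change W.pt w ≫ sw X = z
    rw [hw, Category.assoc, sw_sw, Category.comp_id]

/-- The `GHom` between opposites. -/
def GHom.opL {W P : GTor (X ⊗ X)} {N : ℕ} (α : GHom W P (powL X N)) : GHom W.op P.op (powR X N) where
  map := α.map
  pt_map w := by
    change P.pt (α.map w) ≫ sw X = (W.pt w ≫ sw X) ≫ powR X N
    rw [α.pt_map, Category.assoc, Category.assoc, powL_sw]
  map_res := α.map_res
  map_act := α.map_act
  lift z a h := by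
    obtain ⟨w, hw, h'⟩ := α.lift (z ≫ sw X) a (by
      have := congrArg (· ≫ sw X) h
      change (P.pt a ≫ sw X) ≫ sw X = (z ≫ powR X N) ≫ sw X at this
      rwa [Category.assoc, sw_sw, Category.comp_id, Category.assoc, powR_sw, ← Category.assoc] at this)
    refine ⟨w, ?_, h'⟩
    change W.pt w ≫ sw X = z
    rw [hw, Category.assoc, sw_sw, Category.comp_id]

/-- Exchange of the factors. -/
def Bir.op {P : GTor (X ⊗ X)} (D : Bir P) : Bir P.op where
  r₁ := D.r₂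
  r₂ := D.r₁
  pt_r₁ y := by
    change P.pt (D.r₂ y) ≫ sw X = _
    rw [D.pt_r₂, lift_sw]
  pt_r₂ x := by
    change P.pt (D.r₁ x) ≫ sw X = _
    rw [D.pt_r₁, lift_sw]
  res_r₁ := D.res_r₂
  res_r₂ := D.res_r₁
  r_one := D.r_one.symm

omit [GrpObj X] in
theorem eq_of_comp_sw {T : Over S} {a b : T ⟶ X ⊗ X} (h : a ≫ sw X = b ≫ sw X) : a = b := by
  have := congrArg (· ≫ sw X) h
  simpa only [Category.assoc, sw_sw, Category.comp_id] using this

/-- Exchange of the factors. -/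
def Theta.op {P : GTor (X ⊗ X)} {D : Bir P} {N : ℕ} (θ : Theta D N) : Theta D.op N where
  W := θ.W.op
  α := θ.β.opR
  β := θ.α.opL
  h₁ y w hw h := by
    change θ.W.pt w ≫ sw X = _ at hw
    change θ.β.map w = D.r₂ y at h
    change θ.α.map w = D.r₂ (y ^ N)
    have hw' : θ.W.pt w = lift y 1 := eq_of_comp_sw (by rw [hw, lift_sw])
    obtain ⟨w', hw1, hw2⟩ := θ.α.lift (lift y 1) (D.r₂ (y ^ N)) (by rw [D.pt_r₂, lift_powL])
    have h3 := θ.h₂ y w' hw1 hw2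
    rw [θ.β.ext (hw'.trans hw1.symm) (h.trans h3.symm), hw2]
  h₂ x w hw h := by
    change θ.W.pt w ≫ sw X = _ at hw
    change θ.β.map w = D.r₁ (x ^ N) at h
    change θ.α.map w = D.r₁ x
    have hw' : θ.W.pt w = lift 1 x := eq_of_comp_sw (by rw [hw, lift_sw])
    obtain ⟨w', hw1, hw2⟩ := θ.α.lift (lift 1 x) (D.r₁ x) (by rw [D.pt_r₁, lift_powL, one_pow])
    have h3 := θ.h₁ x w' hw1 hw2
    rw [θ.β.ext (hw'.trans hw1.symm) (h.trans h3.symm), hw2]

namespace Theta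

variable {P : GTor (X ⊗ X)} {D : Bir P} {N : ℕ} (θ : Theta D N)

theorem exists_w {T : Over S} (x y : T ⟶ X) (hx : x ^ N = 1) :
    ∃ w : θ.W.obj T, θ.W.pt w = lift x y ∧ θ.α.map w = D.r₁ y :=
  θ.α.lift (lift x y) (D.r₁ y) (by rw [D.pt_r₁, lift_powL, hx])

/-- The section `z ↦ t_x(z)` over `(x, N z)`. -/
def t {T : Over S} (x y : T ⟶ X) (hx : x ^ N = 1) : P.obj T := θ.β.map (θ.exists_w x y hx).choose

theorem t_eq {T : Over S} {x y : T ⟶ X} (hx : x ^ N = 1) {w : θ.W.obj T} (hw : θ.W.pt w = lift x y)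
    (h : θ.α.map w = D.r₁ y) : θ.t x y hx = θ.β.map w := by
  have h1 := (θ.exists_w x y hx).choose_spec
  rw [t, θ.α.ext (h1.1.trans hw.symm) (h1.2.trans h.symm)]

theorem pt_t {T : Over S} (x y : T ⟶ X) (hx : x ^ N = 1) : P.pt (θ.t x y hx) = lift x (y ^ N) := by
  have h1 := (θ.exists_w x y hx).choose_spec
  rw [t, θ.β.pt_map, h1.1, lift_powR]

theorem res_t {T T' : Over S} (g : T' ⟶ T) (x y : T ⟶ X) (hx : x ^ N = 1) (hx' : (g ≫ x) ^ N = 1) :
    P.res g (θ.t x y hx) = θ.t (g ≫ x) (g ≫ y) hx' := by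
  have h1 := (θ.exists_w x y hx).choose_spec
  rw [θ.t_eq hx' (w := θ.W.res g (θ.exists_w x y hx).choose), θ.β.map_res]
  · rfl
  · rw [θ.W.pt_res, h1.1, comp_lift]
  · rw [θ.α.map_res, h1.2, D.res_r₁]

theorem t_one_right {T : Over S} (x : T ⟶ X) (hx : x ^ N = 1) : θ.t x 1 hx = D.r₂ x := by
  obtain ⟨w, hw, h⟩ := θ.exists_w x 1 hx
  rw [θ.t_eq hx hw h]
  exact θ.h₂ x w hw (by rw [h, hx, D.r_one])

theorem t_one_left {T : Over S} (y : T ⟶ X) : θ.t 1 y (one_pow N) = D.r₁ (y ^ N) := by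
  obtain ⟨w, hw, h⟩ := θ.exists_w 1 y (one_pow N)
  rw [θ.t_eq (one_pow N) hw h]
  exact θ.h₁ y w hw h

theorem pt_t_eq {T : Over S} (x y : T ⟶ X) (hx : x ^ N = 1) (hy : y ^ N = 1) :
    P.pt (θ.t x y hx) = P.pt (D.r₂ x) := by
  rw [pt_t, hy, D.pt_r₂]

/-- The pairing. -/
def e {T : Over S} (x y : T ⟶ X) (hx : x ^ N = 1) (hy : y ^ N = 1) : U T :=
  P.div (θ.t x y hx) (D.r₂ x) (θ.pt_t_eq x y hx hy)

theorem act_e {T : Over S} (x y : T ⟶ X) (hx : x ^ N = 1) (hy : y ^ N = 1) :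
    P.act (θ.e x y hx hy) (D.r₂ x) = θ.t x y hx := P.act_div _ _ _

theorem e_eq {T : Over S} {x y : T ⟶ X} {hx : x ^ N = 1} {hy : y ^ N = 1} {v : U T}
    (h : P.act v (D.r₂ x) = θ.t x y hx) : θ.e x y hx hy = v :=
  P.act_inj _ _ (D.r₂ x) (by rw [act_e, h])

theorem e_nat {T T' : Over S} (g : T' ⟶ T) (x y : T ⟶ X) (hx : x ^ N = 1) (hy : y ^ N = 1)
    (hx' : (g ≫ x) ^ N = 1) (hy' : (g ≫ y) ^ N = 1) : θ.e (g ≫ x) (g ≫ y) hx' hy' = ures g (θ.e x y hx hy) := by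
  apply θ.e_eq
  rw [← D.res_r₂, ← P.res_act, act_e, θ.res_t g x y hx hx']

theorem e_one_left {T : Over S} (y : T ⟶ X) (hy : y ^ N = 1) : θ.e 1 y (one_pow N) hy = 1 := by
  apply θ.e_eq
  rw [P.act_one, t_one_left, hy, D.r_one]

theorem e_one_right {T : Over S} (x : T ⟶ X) (hx : x ^ N = 1) : θ.e x 1 hx (one_pow N) = 1 := by
  apply θ.e_eq
  rw [P.act_one, t_one_right]

/-- The pairing of the opposite data. -/
theorem op_e {T : Over S} (x y : T ⟶ X) (hx : x ^ N = 1) (hy : y ^ N = 1) :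
    θ.op.e y x hy hx = (θ.e x y hx hy)⁻¹ := by
  obtain ⟨w, hw, h⟩ := θ.exists_w x y hx
  have h2 : θ.β.map w = P.act (θ.e x y hx hy) (D.r₂ x) := by rw [act_e, θ.t_eq hx hw h]
  set v := θ.e x y hx hy
  apply θ.op.e_eq
  have h3 : θ.op.t y x hy = θ.op.β.map (θ.W.act v⁻¹ w) := by
    apply θ.op.t_eq
    · change θ.W.pt (θ.W.act v⁻¹ w) ≫ sw X = _
      rw [θ.W.pt_act, hw, lift_sw]
    · change θ.β.map (θ.W.act v⁻¹ w) = D.r₂ x
      rw [θ.β.map_act, h2, P.act_inv_act]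
  rw [h3]
  change P.act v⁻¹ (D.r₁ y) = θ.α.map (θ.W.act v⁻¹ w)
  rw [θ.α.map_act, h]

end Theta

section Push

variable {P : GTor (X ⊗ X)} {D : Bir P} {N : ℕ} (θ : Theta D N) (hU : PushU X)

include hU in
/-- Two sections over `T × X` over the same point are proportional if they are along the unit section. -/
theorem eq_act_of_push {Y : Over S} (Q : GTor Y) {T : Over S} (a b : Q.obj (T ⊗ X)) (h : Q.pt a = Q.pt b) (v : U T)
    (hv : Q.res (lift (𝟙 T) 1) a = Q.act v (Q.res (lift (𝟙 T) 1) b)) : a = Q.act (ures (fst T X) v) b := by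
  obtain ⟨w, rfl⟩ := Q.trans a b h
  rw [Q.res_act] at hv
  rw [← Q.act_inj _ _ _ hv, ← hU T w]

include hU in
/-- The pairing is determined by any section over `(x, N z)` with the right value at the origin. -/
theorem Theta.act_e_of {T : Over S} (x y : T ⟶ X) (hx : x ^ N = 1) (hy : y ^ N = 1) (t : P.obj (T ⊗ X))
    (ht : P.pt t = lift (fst T X ≫ x) (snd T X ^ N)) (h1 : P.res (lift (𝟙 T) 1) t = D.r₂ x) :
    P.act (θ.e x y hx hy) (D.r₂ x) = P.res (lift (𝟙 T) y) t := by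
  have hx' : (fst T X ≫ x) ^ N = 1 := by rw [← comp_pow', hx, MonObj.comp_one]
  have h2 : P.res (lift (𝟙 T) 1) (θ.t (fst T X ≫ x) (snd T X) hx') = D.r₂ x := by
    have hx'' : (lift (𝟙 T) 1 ≫ fst T X ≫ x) ^ N = 1 := by rw [← comp_pow', hx', MonObj.comp_one]
    rw [θ.res_t _ _ _ _ hx'']
    have e1 : lift (𝟙 T) (1 : T ⟶ X) ≫ fst T X ≫ x = x := by rw [lift_fst_assoc, Category.id_comp]
    have e2 : lift (𝟙 T) (1 : T ⟶ X) ≫ snd T X = 1 := lift_snd _ _
    have : ∀ (x' y' : T ⟶ X) (hx' : x' ^ N = 1), x' = x → y' = 1 → θ.t x' y' hx' = D.r₂ x := by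
      rintro x' y' hx' rfl rfl
      exact θ.t_one_right _ _
    exact this _ _ _ e1 e2
  have h3 : t = θ.t (fst T X ≫ x) (snd T X) hx' := by
    rw [eq_act_of_push hU P t (θ.t (fst T X ≫ x) (snd T X) hx') (by rw [ht, pt_t]) 1
      (by rw [h1, h2, P.act_one]), map_one, P.act_one]
  have hx'' : (lift (𝟙 T) y ≫ fst T X ≫ x) ^ N = 1 := by rw [← comp_pow', hx', MonObj.comp_one]
  rw [h3, θ.act_e, θ.res_t _ _ _ _ hx'']
  have e1 : lift (𝟙 T) y ≫ fst T X ≫ x = x := by rw [lift_fst_assoc, Category.id_comp]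
  have e2 : lift (𝟙 T) y ≫ snd T X = y := lift_snd _ _
  have : ∀ (x' y' : T ⟶ X) (hx' : x' ^ N = 1), x' = x → y' = y → θ.t x y hx = θ.t x' y' hx' := by
    rintro x' y' hx' rfl rfl
    rfl
  exact this _ _ _ e1 e2

include hU in
theorem Theta.t_mul [IsCommMonObj X] {T : Over S} (x y z : T ⟶ X) (hx : x ^ N = 1) (hy : y ^ N = 1) :
    θ.t x (y * z) hx = P.act (θ.e x y hx hy) (θ.t x z hx) := by
  have hx' : (fst T X ≫ x) ^ N = 1 := by rw [← comp_pow', hx, MonObj.comp_one]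
  let tr : T ⊗ X ⟶ T ⊗ X := lift (fst T X) ((fst T X ≫ y) * snd T X)
  have key : ∀ (x' z' : T ⟶ X) (hx' : x' ^ N = 1) (z : T ⟶ X), x' = x → z' = z → θ.t x' z' hx' = θ.t x z hx := by
    rintro x' z' hx' z rfl rfl
    rfl
  -- values of the universal section
  have hval : ∀ z : T ⟶ X, P.res (lift (𝟙 T) z) (θ.t (fst T X ≫ x) (snd T X) hx') = θ.t x z hx := by
    intro z
    have hx'' : (lift (𝟙 T) z ≫ fst T X ≫ x) ^ N = 1 := by rw [← comp_pow', hx', MonObj.comp_one]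
    rw [θ.res_t _ _ _ _ hx'']
    exact key _ _ _ _ (by rw [lift_fst_assoc, Category.id_comp]) (lift_snd _ _)
  have hc : ∀ z : T ⟶ X, lift (𝟙 T) z ≫ tr = lift (𝟙 T) (y * z) := by
    intro z
    apply CartesianMonoidalCategory.hom_ext
    · rw [Category.assoc, lift_fst, lift_fst, lift_fst]
    · rw [Category.assoc, lift_snd, lift_snd, MonObj.comp_mul, lift_fst_assoc, Category.id_comp, lift_snd]
  have hval' : ∀ z : T ⟶ X, P.res (lift (𝟙 T) z) (P.res tr (θ.t (fst T X ≫ x) (snd T X) hx')) = θ.t x (y * z) hx := by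
    intro z
    rw [← P.res_comp, hc, hval]
  have h1 : P.res tr (θ.t (fst T X ≫ x) (snd T X) hx') =
      P.act (ures (fst T X) (θ.e x y hx hy)) (θ.t (fst T X ≫ x) (snd T X) hx') := by
    apply eq_act_of_push hU
    · rw [P.pt_res, Theta.pt_t, comp_lift, comp_pow', lift_fst_assoc, lift_snd, mul_pow, ← comp_pow', hy,
        MonObj.comp_one, _root_.one_mul]
    · rw [hval', hval, _root_.mul_one, θ.t_one_right, θ.act_e]
  have h2 := congrArg (P.res (lift (𝟙 T) z)) h1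
  rw [hval', P.res_act, hval, ← ures_comp, lift_fst, ures_id] at h2
  exact h2

include hU in
theorem Theta.e_mul_right [IsCommMonObj X] {T : Over S} (x y y' : T ⟶ X) (hx : x ^ N = 1) (hy : y ^ N = 1)
    (hy' : y' ^ N = 1) (hyy' : (y * y') ^ N = 1) : θ.e x (y * y') hx hyy' = θ.e x y hx hy * θ.e x y' hx hy' := by
  apply θ.e_eq
  rw [P.act_mul, θ.act_e, θ.t_mul hU x y y' hx hy]

theorem Theta.e_congr {T : Over S} {x x' y y' : T ⟶ X} (hx : x ^ N = 1) (hy : y ^ N = 1) (hx' : x' ^ N = 1)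
    (hy' : y' ^ N = 1) (h1 : x = x') (h2 : y = y') : θ.e x y hx hy = θ.e x' y' hx' hy' := by
  subst h1 h2
  rfl

include hU in
theorem Theta.e_mul_left [IsCommMonObj X] {T : Over S} (x x' y : T ⟶ X) (hx : x ^ N = 1) (hx' : x' ^ N = 1)
    (hxx' : (x * x') ^ N = 1) (hy : y ^ N = 1) : θ.e (x * x') y hxx' hy = θ.e x y hx hy * θ.e x' y hx' hy := by
  have h := θ.op.e_mul_right hU y x x' hy hx hx' hxx'
  rw [θ.op_e, θ.op_e, θ.op_e, ← mul_inv] at h
  exact inv_injective h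

/-- The bimultiplicative pairing. -/
def Theta.pairing [IsCommMonObj X] : TPairing X N where
  e := θ.e
  nat := θ.e_nat
  mul_left x x' y hx hx' hxx' hy := θ.e_mul_left hU x x' y hx hx' hxx' hy
  mul_right x y y' hx hy hy' hyy' := θ.e_mul_right hU x y y' hx hy hy' hyy'

include hU in
/-- Compatibility of the pairings of different levels. -/
theorem Theta.e_pow {N' : ℕ} (θ' : Theta D (N * N')) {T : Over S} (x y : T ⟶ X) (hx : x ^ N = 1)
    (hx' : x ^ (N * N') = 1) (hy : y ^ (N * N') = 1) (hy' : (y ^ N') ^ N = 1) :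
    θ'.e x y hx' hy = θ.e x (y ^ N') hx hy' := by
  have hx₁ : (fst T X ≫ x) ^ N = 1 := by rw [← comp_pow', hx, MonObj.comp_one]
  let g : T ⊗ X ⟶ T ⊗ X := lift (fst T X) (snd T X ^ N')
  have key : ∀ (x' z' : T ⟶ X) (hx' : x' ^ N = 1) (z : T ⟶ X), x' = x → z' = z → θ.t x' z' hx' = θ.t x z hx := by
    rintro x' z' hx' z rfl rfl
    rfl
  have hval : ∀ z : T ⟶ X, P.res (lift (𝟙 T) z) (P.res g (θ.t (fst T X ≫ x) (snd T X) hx₁)) =
      θ.t x (z ^ N') hx := by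
    intro z
    have hx'' : ((lift (𝟙 T) z ≫ g) ≫ fst T X ≫ x) ^ N = 1 := by rw [← comp_pow', hx₁, MonObj.comp_one]
    rw [← P.res_comp, θ.res_t _ _ _ _ hx'']
    refine key _ _ _ _ ?_ ?_
    · rw [Category.assoc, lift_fst_assoc, lift_fst_assoc, Category.id_comp]
    · rw [Category.assoc, lift_snd, comp_pow', lift_snd]
  apply θ'.e_eq
  have h := θ'.act_e_of hU x y hx' hy (P.res g (θ.t (fst T X ≫ x) (snd T X) hx₁))
    (by rw [P.pt_res, Theta.pt_t, comp_lift, comp_pow', lift_fst_assoc, lift_snd, ← pow_mul, mul_comm N' N])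
    (by rw [hval, one_pow, θ.t_one_right])
  rw [hval, θ'.act_e] at h
  rw [θ.act_e, h]

include hU in
/-- Points over which the torsor is trivial are in the radical. -/
theorem Theta.e_eq_one_of_triv {T : Over S} (x y : T ⟶ X) (hx : x ^ N = 1) (hy : y ^ N = 1) (q : P.obj (T ⊗ X))
    (hq : P.pt q = lift (fst T X ≫ x) (snd T X)) : θ.e x y hx hy = 1 := by
  have e1 : ∀ z : T ⟶ X, lift (𝟙 T) z ≫ lift (fst T X ≫ x) (snd T X) = lift x z := by
    intro z
    rw [comp_lift, lift_fst_assoc, Category.id_comp, lift_snd]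
  obtain ⟨v, hv⟩ := P.trans (D.r₂ x) (P.res (lift (𝟙 T) 1) q) (by rw [P.pt_res, hq, e1, D.pt_r₂])
  let q' : P.obj (T ⊗ X) := P.act (ures (fst T X) v) q
  have hq' : P.res (lift (𝟙 T) 1) q' = D.r₂ x := by
    rw [P.res_act, ← ures_comp, lift_fst, ures_id, hv]
  have hqp : P.pt q' = lift (fst T X ≫ x) (snd T X) := by rw [P.pt_act, hq]
  let g : T ⊗ X ⟶ T ⊗ X := lift (fst T X) (snd T X ^ N)
  have e2 : ∀ z : T ⟶ X, lift (𝟙 T) z ≫ g = lift (𝟙 T) (z ^ N) := by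
    intro z
    rw [comp_lift, comp_pow', lift_fst, lift_snd]
  have h := θ.act_e_of hU x y hx hy (P.res g q') (by rw [P.pt_res, hqp, comp_lift, lift_fst_assoc, lift_snd])
    (by rw [← P.res_comp, e2, one_pow, hq'])
  rw [← P.res_comp, e2, hy, hq'] at h
  exact P.act_inj _ _ (D.r₂ x) (by rw [h, P.act_one])

/-- Descent of sections along `[N]` on `X`. -/
def GTor.DescPow (P : GTor (X ⊗ X)) (N : ℕ) : Prop :=
  ∀ {T : Over S} (z : T ⊗ X ⟶ X ⊗ X) (a : P.obj (T ⊗ X)), P.pt a = lift (fst T X) (snd T X ^ N) ≫ z →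
    (∀ {T' : Over S} (g₁ g₂ : T' ⟶ T ⊗ X), g₁ ≫ lift (fst T X) (snd T X ^ N) = g₂ ≫ lift (fst T X) (snd T X ^ N) →
      P.res g₁ a = P.res g₂ a) → ∃ b : P.obj (T ⊗ X), P.pt b = z

include hU in
/-- Points in the radical: the torsor is trivial over them. -/
theorem Theta.exists_triv [IsCommMonObj X] (hP : P.DescPow N) {T : Over S} (x : T ⟶ X) (hx : x ^ N = 1)
    (h : ∀ {T' : Over S} (g : T' ⟶ T) (y : T' ⟶ X) (hgx : (g ≫ x) ^ N = 1) (hy : y ^ N = 1),
      θ.e (g ≫ x) y hgx hy = 1) :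
    ∃ q : P.obj (T ⊗ X), P.pt q = lift (fst T X ≫ x) (snd T X) := by
  have hx' : (fst T X ≫ x) ^ N = 1 := by rw [← comp_pow', hx, MonObj.comp_one]
  refine hP (lift (fst T X ≫ x) (snd T X)) (θ.t (fst T X ≫ x) (snd T X) hx') ?_ ?_
  · rw [θ.pt_t, comp_lift, lift_fst_assoc, lift_snd]
  · intro T' g₁ g₂ hg
    have h1 : g₁ ≫ fst T X = g₂ ≫ fst T X := by
      have := congrArg (· ≫ fst T X) hg
      simpa only [Category.assoc, lift_fst] using this
    have h2 : (g₁ ≫ snd T X) ^ N = (g₂ ≫ snd T X) ^ N := by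
      have := congrArg (· ≫ snd T X) hg
      simpa only [Category.assoc, lift_snd, comp_pow'] using this
    have hx₁ : (g₁ ≫ fst T X ≫ x) ^ N = 1 := by rw [← comp_pow', hx', MonObj.comp_one]
    have hx₂ : (g₂ ≫ fst T X ≫ x) ^ N = 1 := by rw [← comp_pow', hx', MonObj.comp_one]
    rw [θ.res_t _ _ _ _ hx₁, θ.res_t _ _ _ _ hx₂]
    set y := (g₁ ≫ snd T X) * (g₂ ≫ snd T X)⁻¹ with hy
    have hyN : y ^ N = 1 := by rw [hy, mul_pow, inv_pow, h2, mul_inv_cancel]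
    have h3 : g₁ ≫ snd T X = y * (g₂ ≫ snd T X) := by rw [hy, inv_mul_cancel_right]
    have key : ∀ (x' : T' ⟶ X) (hx' : x' ^ N = 1) (z' z : T' ⟶ X), x' = g₂ ≫ fst T X ≫ x → z' = z →
        θ.t x' z' hx' = θ.t (g₂ ≫ fst T X ≫ x) z hx₂ := by
      rintro x' hx' z' z rfl rfl
      rfl
    rw [key _ hx₁ _ (y * (g₂ ≫ snd T X)) (by rw [← Category.assoc, h1, Category.assoc]) h3,
      θ.t_mul hU _ _ _ hx₂ hyN]
    have h4 : θ.e (g₂ ≫ fst T X ≫ x) y hx₂ hyN = 1 := by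
      have hx₃ : ((g₂ ≫ fst T X) ≫ x) ^ N = 1 := by rw [Category.assoc]; exact hx₂
      rw [θ.e_congr hx₂ hyN hx₃ hyN (Category.assoc _ _ _).symm rfl]
      exact h (g₂ ≫ fst T X) y hx₃ hyN
    rw [h4, P.act_one]

/-- A symmetry of the torsor exchanging the rigidifications. -/
structure Bir.Sym {P : GTor (X ⊗ X)} (D : Bir P) where
  σ : GHom P P (sw X)
  h₁ : ∀ {T : Over S} (y : T ⟶ X), σ.map (D.r₁ y) = D.r₂ y

include hU in
/-- The pairing of a symmetric torsor is skew-symmetric. -/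
theorem Theta.e_skew (s : D.Sym) {T : Over S} (x y : T ⟶ X) (hx : x ^ N = 1) (hy : y ^ N = 1) :
    θ.e x y hx hy * θ.e y x hy hx = 1 := by
  have hy₁ : (fst T X ≫ y) ^ N = 1 := by rw [← comp_pow', hy, MonObj.comp_one]
  have key : ∀ (y' z' : T ⟶ X) (hy' : y' ^ N = 1) (z : T ⟶ X), y' = y → z' = z →
      θ.op.t y' z' hy' = θ.op.t y z hy := by
    rintro y' z' hy' z rfl rfl
    rfl
  let t' : P.obj (T ⊗ X) := θ.op.t (fst T X ≫ y) (snd T X) hy₁
  have hval : ∀ z : T ⟶ X, P.res (lift (𝟙 T) z) t' = θ.op.t y z hy := by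
    intro z
    have hx'' : (lift (𝟙 T) z ≫ fst T X ≫ y) ^ N = 1 := by rw [← comp_pow', hy₁, MonObj.comp_one]
    refine (θ.op.res_t (lift (𝟙 T) z) _ _ hy₁ hx'').trans ?_
    exact key _ _ _ _ (by rw [lift_fst_assoc, Category.id_comp]) (lift_snd _ _)
  have hpt : P.pt (s.σ.map t') = lift (fst T X ≫ y) (snd T X ^ N) := by
    rw [s.σ.pt_map]
    exact θ.op.pt_t _ _ hy₁
  have h1 : P.res (lift (𝟙 T) 1) (s.σ.map t') = D.r₂ y := by
    rw [← s.σ.map_res, hval, θ.op.t_one_right]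
    exact s.h₁ y
  have h2 := θ.act_e_of hU y x hy hx (s.σ.map t') hpt h1
  rw [← s.σ.map_res, hval, ← θ.op.act_e y x hy hx] at h2
  have h3 : s.σ.map (P.op.act (θ.op.e y x hy hx) (D.op.r₂ y)) = P.act (θ.op.e y x hy hx) (D.r₂ y) := by
    rw [← s.h₁ y]
    exact s.σ.map_act _ _
  rw [h3, θ.op_e] at h2
  rw [P.act_inj _ _ _ h2, mul_inv_cancel]

end Push

end K270.MB
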