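import Groth.Agent.GrpSch.K270.MB.OfMod
import Groth.Agent.AbVar.K529.KL
import Groth.Agent.ThetaGrp.K999.Iso

/-!
# Existence of birigidifications and of theta data

* `exists_obj_iff`: a section of the torsor of `M` over `f` exists iff `f^* M` is trivial.
* `exists_bir`: birigidifications exist if the restrictions to the axes are trivial.
* `ATheta`: theta data given by arrows; `exists_atheta`.
-/

set_option autoImplicit false
universe u
open CategoryTheory CategoryTheory.Limits MonoidalCategory CartesianMonoidalCategory MonObj AlgebraicGeometry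
open K999.Cart K999.EDesc K999.Scal Groth.Agent.Grpsch.PicGrp K529.KL

noncomputable section

namespace K270.MB

variable {S : Scheme.{u}}

theorem mk_un (T : Over S) : mk _ (isInvertible_un T) = 1 := by
  have h : (1 : Pic S) = mk (Coh.structureModule S) Groth.Agent.Fdesc.LocGen.isInvertible_structureModule := rfl
  rw [← pull_mk T.hom Groth.Agent.Fdesc.LocGen.isInvertible_structureModule, ← h, map_one]

theorem exists_obj_iff {X : Over S} {M : X.left.Modules} (hM : PicF.IsInvertible M) {T : Over S} (f : T ⟶ X) :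
    (∃ a : (GTor.ofMod X M).obj T, (GTor.ofMod X M).pt a = f) ↔ pl f (mk M hM) = 1 := by
  rw [← mk_un T, pull_mk, mk_eq_iff]
  constructor
  · rintro ⟨a, rfl⟩
    obtain ⟨e, -⟩ := K999.VIso.exists_iso_of_cart (isCart_cart ((GTor.ofMod X M).pt a).left M) a.2.1 rfl rfl
    exact ⟨e⟩
  · rintro ⟨e⟩
    refine ⟨⟨vert e.inv ≫ cart f.left M, (IsCart.of_isIso (vert e.inv)).comp (isCart_cart _ _), ?_⟩, ?_⟩
    · change (𝟙 _ ≫ f.left) ≫ X.hom = _
      rw [Category.id_comp, Over.w]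
    · apply Over.OverMorphism.ext
      change 𝟙 _ ≫ f.left = _
      rw [Category.id_comp]

/-- Invertible functions on `X` are constant. -/
def ConstU (X : Over S) [GrpObj X] : Prop := ∀ v : U X, v = ures (toUnit X) (ures (η : 𝟙_ (Over S) ⟶ X) v)

variable {X : Over S} [GrpObj X]

/-- Birigidifications from universal sections. -/
def Bir.ofUniv (P : GTor (X ⊗ X)) (ρ₁ ρ₂ : P.obj X) (h₁ : P.pt ρ₁ = lift 1 (𝟙 X)) (h₂ : P.pt ρ₂ = lift (𝟙 X) 1)
    (h : P.res (η : 𝟙_ (Over S) ⟶ X) ρ₁ = P.res η ρ₂) : Bir P where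
  r₁ y := P.res y ρ₁
  r₂ x := P.res x ρ₂
  pt_r₁ y := by rw [P.pt_res, h₁, comp_lift, MonObj.comp_one, Category.comp_id]
  pt_r₂ x := by rw [P.pt_res, h₂, comp_lift, MonObj.comp_one, Category.comp_id]
  res_r₁ g y := by rw [P.res_comp]
  res_r₂ g x := by rw [P.res_comp]
  r_one {T} := by
    have h1 : (1 : T ⟶ X) = toUnit T ≫ η := rfl
    rw [h1, P.res_comp, P.res_comp, h]

theorem η_eq_one : (η : 𝟙_ (Over S) ⟶ X) = 1 := by
  rw [Hom.one_def, toUnit_unit, Category.id_comp]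

theorem η_toUnit : (η : 𝟙_ (Over S) ⟶ X) ≫ toUnit X = 𝟙 _ := toUnit_unique _ _

theorem exists_bir (P : GTor (X ⊗ X)) (h₁ : ∃ a : P.obj X, P.pt a = lift 1 (𝟙 X))
    (h₂ : ∃ a : P.obj X, P.pt a = lift (𝟙 X) 1) : Nonempty (Bir P) := by
  obtain ⟨ρ₁, h₁⟩ := h₁
  obtain ⟨ρ₂, h₂⟩ := h₂
  obtain ⟨c, hc⟩ := P.trans (P.res (η : 𝟙_ (Over S) ⟶ X) ρ₁) (P.res η ρ₂) (by
    rw [P.pt_res, P.pt_res, h₁, h₂, comp_lift, comp_lift, MonObj.comp_one, Category.comp_id, η_eq_one])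
  refine ⟨Bir.ofUniv P ρ₁ (P.act (ures (toUnit X) c) ρ₂) h₁ (by rw [P.pt_act, h₂]) ?_⟩
  rw [P.res_act, ← ures_comp, η_toUnit, ures_id, hc]

/-- Theta data given by arrows. -/
structure ATheta {M : (X ⊗ X).left.Modules} (D : Bir (GTor.ofMod (X ⊗ X) M)) (N : ℕ) where
  W : (X ⊗ X).left.Modules
  inv : PicF.IsInvertible W
  a : ob (X ⊗ X).left W ⟶ ob (X ⊗ X).left M
  b : ob (X ⊗ X).left W ⟶ ob (X ⊗ X).left M
  ha : IsCart a
  hb : IsCart b
  hab : a.base = (powL X N).left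
  hbb : b.base = (powR X N).left
  h₁ : ∀ {T : Over S} (y : T ⟶ X) (w : (GTor.ofMod (X ⊗ X) W).obj T), (GTor.ofMod (X ⊗ X) W).pt w = lift 1 y →
    (GHom.ofArr (powL X N) a ha hab).map w = D.r₁ y → (GHom.ofArr (powR X N) b hb hbb).map w = D.r₁ (y ^ N)
  h₂ : ∀ {T : Over S} (x : T ⟶ X) (w : (GTor.ofMod (X ⊗ X) W).obj T), (GTor.ofMod (X ⊗ X) W).pt w = lift x 1 →
    (GHom.ofArr (powL X N) a ha hab).map w = D.r₂ (x ^ N) → (GHom.ofArr (powR X N) b hb hbb).map w = D.r₂ x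

/-- The underlying theta datum. -/
def ATheta.toTheta {M : (X ⊗ X).left.Modules} {D : Bir (GTor.ofMod (X ⊗ X) M)} {N : ℕ} (θ : ATheta D N) :
    Theta D N where
  W := GTor.ofMod (X ⊗ X) θ.W
  α := GHom.ofArr _ θ.a θ.ha θ.hab
  β := GHom.ofArr _ θ.b θ.hb θ.hbb
  h₁ := θ.h₁
  h₂ := θ.h₂

/-- Scaling a cartesian arrow by a unit. -/
theorem ofArr_muU {X Y : Over S} {M : X.left.Modules} {N : Y.left.Modules} (f : X ⟶ Y)
    (φ : ob X.left M ⟶ ob Y.left N) (hφ : IsCart φ) (hb : φ.base = f.left) (v : U X)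
    (hφ' : IsCart (muU M v ≫ φ)) (hb' : (muU M v ≫ φ).base = f.left) {T : Over S} (w : (GTor.ofMod X M).obj T) :
    (GHom.ofArr f (muU M v ≫ φ) hφ' hb').map w =
      (GTor.ofMod Y N).act (ures ((GTor.ofMod X M).pt w) v) ((GHom.ofArr f φ hφ hb).map w) := by
  apply Subtype.ext
  change w.1 ≫ muU M v ≫ φ = muU _ (ures ((GTor.ofMod X M).pt w) v) ≫ w.1 ≫ φ
  rw [← Category.assoc, muU, mu_nat, Category.assoc]
  rfl

theorem exists_atheta {M : (X ⊗ X).left.Modules} (hM : PicF.IsInvertible M) (D : Bir (GTor.ofMod (X ⊗ X) M))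
    (hc : ConstU X) (N : ℕ) (hcl : pl (powL X N) (mk M hM) = pl (powR X N) (mk M hM)) : Nonempty (ATheta D N) := by
  have hW := Groth.Agent.Fdesc.LocGen.isInvertible_pullback (powL X N).left hM
  have hcl' := hcl
  rw [pull_mk, pull_mk, mk_eq_iff] at hcl'
  obtain ⟨e⟩ := hcl'
  let W := (Scheme.Modules.pullback (powL X N).left).obj M
  let a : ob (X ⊗ X).left W ⟶ ob (X ⊗ X).left M := cart (powL X N).left M
  have ha : IsCart a := isCart_cart _ _
  let b₀ : ob (X ⊗ X).left W ⟶ ob (X ⊗ X).left M := vert e.hom ≫ cart (powR X N).left M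
  have hb₀ : IsCart b₀ := (IsCart.of_isIso (vert e.hom)).comp (isCart_cart _ _)
  have hbb₀ : b₀.base = (powR X N).left := Category.id_comp _
  let α := GHom.ofArr (powL X N) a ha rfl
  let β₀ := GHom.ofArr (powR X N) b₀ hb₀ hbb₀
  obtain ⟨n₁, hn₁, hn₁'⟩ := α.lift (lift 1 (𝟙 X)) (D.r₁ (𝟙 X)) (by rw [D.pt_r₁, lift_powL, one_pow])
  obtain ⟨n₂, hn₂, hn₂'⟩ := α.lift (lift (𝟙 X) 1) (D.r₂ (𝟙 X ^ N)) (by rw [D.pt_r₂, lift_powL])
  obtain ⟨v₁, hv₁⟩ := (GTor.ofMod (X ⊗ X) M).trans (β₀.map n₁) (D.r₁ (𝟙 X ^ N)) (by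
    rw [β₀.pt_map, hn₁, lift_powR, D.pt_r₁])
  obtain ⟨v₂, hv₂⟩ := (GTor.ofMod (X ⊗ X) M).trans (β₀.map n₂) (D.r₂ (𝟙 X)) (by
    rw [β₀.pt_map, hn₂, lift_powR, D.pt_r₂, one_pow])
  set c₁ := ures (η : 𝟙_ (Over S) ⟶ X) v₁ with hc₁
  set c₂ := ures (η : 𝟙_ (Over S) ⟶ X) v₂ with hc₂
  have hv₁' := hc v₁
  have hv₂' := hc v₂
  rw [← hc₁] at hv₁'
  rw [← hc₂] at hv₂'
  have hη : ∀ N : ℕ, (η : 𝟙_ (Over S) ⟶ X) ≫ 𝟙 X ^ N = 1 := by
    intro N
    rw [comp_pow', Category.comp_id, η_eq_one, one_pow]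
  have h12 : (GTor.ofMod (X ⊗ X) W).res (η : 𝟙_ (Over S) ⟶ X) n₁ = (GTor.ofMod (X ⊗ X) W).res η n₂ := by
    apply α.ext
    · rw [GTor.pt_res, GTor.pt_res, hn₁, hn₂, comp_lift, comp_lift, MonObj.comp_one, Category.comp_id, η_eq_one]
    · rw [α.map_res, α.map_res, hn₁', hn₂', D.res_r₁, D.res_r₂, hη, Category.comp_id, η_eq_one, D.r_one]
  have hcc : c₁ = c₂ := by
    have h := congrArg β₀.map h12
    rw [β₀.map_res, β₀.map_res, ← hv₁, ← hv₂, GTor.res_act, GTor.res_act, D.res_r₁, D.res_r₂, hη,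
      Category.comp_id, η_eq_one, D.r_one] at h
    have h' := (GTor.ofMod (X ⊗ X) M).act_inj _ _ _ h
    rw [hc₁, hc₂, η_eq_one]
    exact h'
  let v : U (X ⊗ X) := ures (toUnit (X ⊗ X)) c₁⁻¹
  have hvr : ∀ {T : Over S} (z : T ⟶ X ⊗ X), ures z v = ures (toUnit T) c₁⁻¹ := by
    intro T z
    rw [← ures_comp, toUnit_unique (z ≫ toUnit _) (toUnit T)]
  refine ⟨⟨W, hW, a, muU W v ≫ b₀, ha, (isCart_muU W v).comp hb₀, rfl, ?_, ?_, ?_⟩⟩
  · change 𝟙 _ ≫ b₀.base = _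
    rw [Category.id_comp, hbb₀]
  · intro T y w hw h
    rw [ofArr_muU (powR X N) b₀ hb₀ hbb₀, hvr]
    have hwn : w = (GTor.ofMod (X ⊗ X) W).res y n₁ := by
      apply α.ext
      · rw [hw, GTor.pt_res, hn₁, comp_lift, MonObj.comp_one, Category.comp_id]
      · rw [α.map_res, hn₁', D.res_r₁, Category.comp_id]
        exact h
    rw [hwn]
    change (GTor.ofMod (X ⊗ X) M).act _ (β₀.map _) = _
    rw [β₀.map_res, ← hv₁, GTor.res_act, D.res_r₁, hv₁', ← ures_comp, toUnit_unique (y ≫ toUnit X) (toUnit T),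
      ← GTor.act_mul, ← map_mul, inv_mul_cancel, map_one, GTor.act_one, comp_pow', Category.comp_id]
  · intro T x w hw h
    rw [ofArr_muU (powR X N) b₀ hb₀ hbb₀, hvr]
    have hwn : w = (GTor.ofMod (X ⊗ X) W).res x n₂ := by
      apply α.ext
      · rw [hw, GTor.pt_res, hn₂, comp_lift, MonObj.comp_one, Category.comp_id]
      · rw [α.map_res, hn₂', D.res_r₂, comp_pow', Category.comp_id]
        exact h
    rw [hwn]
    change (GTor.ofMod (X ⊗ X) M).act _ (β₀.map _) = _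
    rw [β₀.map_res, ← hv₂, GTor.res_act, D.res_r₂, hv₂', ← hcc, ← ures_comp,
      toUnit_unique (x ≫ toUnit X) (toUnit T), ← GTor.act_mul, ← map_mul, inv_mul_cancel, map_one, GTor.act_one,
      Category.comp_id]

end K270.MB
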