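import Groth.Agent.GrpSch.K270.MB.Shape

/-!
# Torsors under `𝔾_m`, on points, and the pairing `e_N`

* `GTor X`: a presheaf of pseudo-torsors under the invertible functions over an `S`-scheme `X` (the model is the sections of an
  invertible module over a moving point of `X`).
* `GHom W P f`: an equivariant map over `f`, cartesian.
* `Bir P`: rigidifications of a `GTor` over `X ⊗ X` along both axes.
* `Theta D N`: an identification of `([N] × 1)^* P` and `(1 × [N])^* P` compatible with the rigidifications.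
* `Theta.e`: the pairing.
-/

set_option autoImplicit false
universe u
open CategoryTheory CategoryTheory.Limits MonoidalCategory CartesianMonoidalCategory MonObj AlgebraicGeometry

noncomputable section

namespace K270.MB

variable {S : Scheme.{u}}

/-- A pseudo-torsor under the invertible functions over `X`. -/
structure GTor (X : Over S) where
  obj : Over S → Type u
  pt : ∀ {T : Over S}, obj T → (T ⟶ X)
  res : ∀ {T T' : Over S}, (T' ⟶ T) → obj T → obj T'
  act : ∀ {T : Over S}, U T → obj T → obj T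
  pt_res : ∀ {T T' : Over S} (g : T' ⟶ T) (a : obj T), pt (res g a) = g ≫ pt a
  pt_act : ∀ {T : Over S} (v : U T) (a : obj T), pt (act v a) = pt a
  res_id : ∀ {T : Over S} (a : obj T), res (𝟙 T) a = a
  res_comp : ∀ {T T' T'' : Over S} (g : T' ⟶ T) (h : T'' ⟶ T') (a : obj T), res (h ≫ g) a = res h (res g a)
  act_one : ∀ {T : Over S} (a : obj T), act 1 a = a
  act_mul : ∀ {T : Over S} (v w : U T) (a : obj T), act (v * w) a = act v (act w a)
  res_act : ∀ {T T' : Over S} (g : T' ⟶ T) (v : U T) (a : obj T), res g (act v a) = act (ures g v) (res g a)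
  act_inj : ∀ {T : Over S} (v w : U T) (a : obj T), act v a = act w a → v = w
  trans : ∀ {T : Over S} (a b : obj T), pt a = pt b → ∃ v, act v b = a

namespace GTor

variable {X Y Z : Over S}

/-- The ratio of two sections over the same point. -/
def div (P : GTor X) {T : Over S} (a b : P.obj T) (h : P.pt a = P.pt b) : U T := (P.trans a b h).choose

theorem act_div (P : GTor X) {T : Over S} (a b : P.obj T) (h : P.pt a = P.pt b) : P.act (P.div a b h) b = a :=
  (P.trans a b h).choose_spec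

theorem eq_div (P : GTor X) {T : Over S} {a b : P.obj T} (h : P.pt a = P.pt b) {v : U T} (hv : P.act v b = a) :
    P.div a b h = v := P.act_inj _ _ b (by rw [P.act_div, hv])

theorem act_inv_act (P : GTor X) {T : Over S} (v : U T) (a : P.obj T) : P.act v⁻¹ (P.act v a) = a := by
  rw [← P.act_mul, inv_mul_cancel, P.act_one]

end GTor

/-- A cartesian equivariant map over `f`. -/
structure GHom {X Y : Over S} (W : GTor X) (P : GTor Y) (f : X ⟶ Y) where
  map : ∀ {T : Over S}, W.obj T → P.obj T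
  pt_map : ∀ {T : Over S} (w : W.obj T), P.pt (map w) = W.pt w ≫ f
  map_res : ∀ {T T' : Over S} (g : T' ⟶ T) (w : W.obj T), map (W.res g w) = P.res g (map w)
  map_act : ∀ {T : Over S} (v : U T) (w : W.obj T), map (W.act v w) = P.act v (map w)
  lift : ∀ {T : Over S} (z : T ⟶ X) (a : P.obj T), P.pt a = z ≫ f → ∃ w : W.obj T, W.pt w = z ∧ map w = a

namespace GHom

variable {X Y : Over S} {W : GTor X} {P : GTor Y} {f : X ⟶ Y}

theorem ext (α : GHom W P f) {T : Over S} {w w' : W.obj T} (hp : W.pt w = W.pt w') (h : α.map w = α.map w') :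
    w = w' := by
  obtain ⟨v, rfl⟩ := W.trans w w' hp
  rw [α.map_act] at h
  have h1 : v = 1 := P.act_inj v 1 (α.map w') (by rw [h, P.act_one])
  rw [h1, W.act_one]

end GHom

/-- Rigidifications along both axes. -/
structure Bir {X : Over S} [GrpObj X] (P : GTor (X ⊗ X)) where
  r₁ : ∀ {T : Over S}, (T ⟶ X) → P.obj T
  r₂ : ∀ {T : Over S}, (T ⟶ X) → P.obj T
  pt_r₁ : ∀ {T : Over S} (y : T ⟶ X), P.pt (r₁ y) = lift 1 y
  pt_r₂ : ∀ {T : Over S} (x : T ⟶ X), P.pt (r₂ x) = lift x 1
  res_r₁ : ∀ {T T' : Over S} (g : T' ⟶ T) (y : T ⟶ X), P.res g (r₁ y) = r₁ (g ≫ y)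
  res_r₂ : ∀ {T T' : Over S} (g : T' ⟶ T) (x : T ⟶ X), P.res g (r₂ x) = r₂ (g ≫ x)
  r_one : ∀ {T : Over S}, r₁ (1 : T ⟶ X) = r₂ (1 : T ⟶ X)

/-- `[N] × 1`. -/
abbrev powL (X : Over S) [GrpObj X] (N : ℕ) : X ⊗ X ⟶ X ⊗ X := lift (fst X X ^ N) (snd X X)

/-- `1 × [N]`. -/
abbrev powR (X : Over S) [GrpObj X] (N : ℕ) : X ⊗ X ⟶ X ⊗ X := lift (fst X X) (snd X X ^ N)

theorem comp_pow' {X T T' : Over S} [GrpObj X] (g : T' ⟶ T) (x : T ⟶ X) (N : ℕ) : g ≫ x ^ N = (g ≫ x) ^ N := by
  induction N with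
  | zero => rw [pow_zero, pow_zero, MonObj.comp_one]
  | succ n ih => rw [pow_succ, pow_succ, MonObj.comp_mul, ih]

theorem lift_powL {X T : Over S} [GrpObj X] (x y : T ⟶ X) (N : ℕ) : lift x y ≫ powL X N = lift (x ^ N) y := by
  rw [comp_lift, comp_pow', lift_fst, lift_snd]

theorem lift_powR {X T : Over S} [GrpObj X] (x y : T ⟶ X) (N : ℕ) : lift x y ≫ powR X N = lift x (y ^ N) := by
  rw [comp_lift, comp_pow', lift_fst, lift_snd]

/-- An identification of `([N] × 1)^* P` and `(1 × [N])^* P`, compatible with the rigidifications. -/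
structure Theta {X : Over S} [GrpObj X] {P : GTor (X ⊗ X)} (D : Bir P) (N : ℕ) where
  W : GTor (X ⊗ X)
  α : GHom W P (powL X N)
  β : GHom W P (powR X N)
  h₁ : ∀ {T : Over S} (y : T ⟶ X) (w : W.obj T), W.pt w = lift 1 y → α.map w = D.r₁ y → β.map w = D.r₁ (y ^ N)
  h₂ : ∀ {T : Over S} (x : T ⟶ X) (w : W.obj T), W.pt w = lift x 1 → α.map w = D.r₂ (x ^ N) → β.map w = D.r₂ x

/-- Invertible functions on `T ⊗ X` are constant along `X`. -/
def PushU (X : Over S) [GrpObj X] : Prop :=
  ∀ (T : Over S) (v : U (T ⊗ X)), v = ures (fst T X) (ures (lift (𝟙 T) 1) v)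

end K270.MB
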