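import Groth.Agent.GrpSch.K270.MB.Closed
import Groth.Agent.Grpsch.Cube
import Groth.Agent.Grpsch.MulFinFlat
import Groth.Agent.ThetaGrp.K999.AVPush

/-!
# The theta data of an invertible module on an abelian variety

`P = Λ(L)`: rigidifications, theta data for all `N`, symmetry, and the radical of `e_N` is `K(L) ∩ A[N]`.
-/

set_option autoImplicit false
universe u
open CategoryTheory CategoryTheory.Limits MonoidalCategory CartesianMonoidalCategory MonObj AlgebraicGeometry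
open K999.Cart K999.EDesc K999.Scal Groth.Agent.Grpsch.PicGrp K529.KL

noncomputable section

namespace K270.MB

/-- A class equality gives a cartesian arrow. -/
theorem exists_cart {X Y : Scheme.{u}} (f : X ⟶ Y) {M : X.Modules} {N : Y.Modules} (hM : PicF.IsInvertible M)
    (hN : PicF.IsInvertible N) (h : pull f (mk N hN) = mk M hM) : ∃ φ : ob X M ⟶ ob Y N, IsCart φ ∧ φ.base = f := by
  rw [pull_mk, mk_eq_iff] at h
  obtain ⟨e⟩ := h
  refine ⟨vert e.inv ≫ cart f N, (IsCart.of_isIso (vert e.inv)).comp (isCart_cart _ _), ?_⟩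
  exact Category.id_comp _

theorem constU_of_pushU {S : Scheme.{u}} {X : Over S} [GrpObj X] (h : PushU X) : ConstU X := by
  intro v
  have h1 := congrArg (ures (lift (toUnit X) (𝟙 X))) (h (𝟙_ (Over S)) (ures (snd _ _) v))
  have e1 : ures (lift (toUnit X) (𝟙 X)) (ures (snd _ _) v) = v := by rw [← ures_comp, lift_snd, ures_id]
  have e2 : ures (lift (𝟙 (𝟙_ (Over S))) (1 : 𝟙_ (Over S) ⟶ X)) (ures (snd _ _) v) = ures η v := by
    rw [← ures_comp, lift_snd, η_eq_one]
  rw [e1, e2, ← ures_comp, lift_fst] at h1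
  exact h1

section Field

variable {K : Type u} [Field K] {A : Over (Spec (CommRingCat.of K))} [GrpObj A] [IsProper A.hom]
  [GeometricallyIntegral A.hom]

omit [GrpObj A] [IsProper A.hom] [GeometricallyIntegral A.hom] in
theorem pushU_of_pushO {S : Scheme.{u}} {X : Over S} [GrpObj X] (h : K999.Sc.PushO X) : PushU X := by
  intro T v
  obtain ⟨w, hw⟩ := (h T).2 (ures (lift (snd X T) (fst X T)) v : U (X ⊗ T))
  obtain ⟨w', hw'⟩ := (h T).2 (ures (lift (snd X T) (fst X T)) v⁻¹ : U (X ⊗ T))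
  have hu : w * w' = 1 := by
    apply (h T).1
    rw [map_mul, hw, hw', map_one, ← Units.val_mul, ← map_mul, mul_inv_cancel, map_one, Units.val_one]
  let w₀ : U T := ⟨w, w', hu, by rw [mul_comm, hu]⟩
  have h1 : ures (snd X T) w₀ = ures (lift (snd X T) (fst X T)) v := Units.ext hw
  have h2 := congrArg (ures (lift (snd T X) (fst T X))) h1
  rw [← ures_comp, ← ures_comp, lift_snd, comp_lift, lift_snd, lift_fst, lift_fst_snd, ures_id] at h2
  have e : ures (lift (𝟙 T) (1 : T ⟶ X)) (ures (fst T X) w₀) = w₀ := by rw [← ures_comp, lift_fst, ures_id]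
  rw [← h2, e]

variable (A) in
theorem pushU : PushU A := pushU_of_pushO (K999.AVPush.pushO A)

variable (A) in
theorem constU : ConstU A := constU_of_pushU (pushU A)

variable {L : A.left.Modules} (hL : PicF.IsInvertible L) {Λ : (A ⊗ A).left.Modules} (hΛi : PicF.IsInvertible Λ)
  (hΛ : AgPol.IsLambdaSheaf μ[A].left (fst A A).left (snd A A).left L Λ)

omit [IsProper A.hom] [GeometricallyIntegral A.hom] in
/-- The class of `Λ` at a point. -/
theorem lam_eq {T : Over (Spec (CommRingCat.of K))} (a b : T ⟶ A) (hΛ : AgPol.IsLambdaSheaf μ[A].left (fst A A).left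
    (snd A A).left L Λ) :
    pl (lift a b) (mk Λ hΛi) * (pl a (mk L hL) * pl b (mk L hL)) = pl (a * b) (mk L hL) := by
  rw [isLambdaSheaf_iff _ _ _ hL hΛi] at hΛ
  have h := congrArg (pl (lift a b)) hΛ
  change pl (lift a b) (mk Λ hΛi * pl (fst A A) (mk L hL) * pl (snd A A) (mk L hL)) =
    pl (lift a b) (pl μ[A] (mk L hL)) at h
  rw [map_mul, map_mul, ← pl_comp, ← pl_comp, ← pl_comp, lift_fst, lift_snd] at h
  rw [← _root_.mul_assoc]
  exact h

include hL hΛ in
theorem lam_mul_left {T : Over (Spec (CommRingCat.of K))} (a a' b : T ⟶ A) :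
    pl (lift (a * a') b) (mk Λ hΛi) = pl (lift a b) (mk Λ hΛi) * pl (lift a' b) (mk Λ hΛi) := by
  have h1 := lam_eq hL hΛi a b hΛ
  have h2 := lam_eq hL hΛi a' b hΛ
  have h3 := lam_eq hL hΛi (a * a') b hΛ
  have h4 := Groth.Agent.Grpsch.Cube.cube (mk L hL) a a' b
  change pl (a * a' * b) (mk L hL) * pl a (mk L hL) * pl a' (mk L hL) * pl b (mk L hL) =
    pl (a * a') (mk L hL) * pl (a * b) (mk L hL) * pl (a' * b) (mk L hL) at h4
  rw [← h3, ← h1, ← h2] at h4
  generalize pl (lift (a * a') b) (mk Λ hΛi) = x at h4 ⊢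
  generalize pl (lift a b) (mk Λ hΛi) = y at h4 ⊢
  generalize pl (lift a' b) (mk Λ hΛi) = z at h4 ⊢
  generalize pl a (mk L hL) = p at h4
  generalize pl a' (mk L hL) = p' at h4
  generalize pl b (mk L hL) = q at h4
  generalize pl (a * a') (mk L hL) = r at h4
  have h5 : x * (r * q * p * p' * q) = (y * z) * (r * q * p * p' * q) := by
    calc x * (r * q * p * p' * q) = x * (r * q) * p * p' * q := by simp only [_root_.mul_assoc]
      _ = r * (y * (p * q)) * (z * (p' * q)) := h4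
      _ = (y * z) * (r * q * p * p' * q) := by
        simp only [_root_.mul_left_comm, _root_.mul_comm]
  exact mul_right_cancel h5

include hL hΛ in
theorem lam_swap {T : Over (Spec (CommRingCat.of K))} (a b : T ⟶ A) :
    pl (lift a b) (mk Λ hΛi) = pl (lift b a) (mk Λ hΛi) := by
  have := isCommMonObj_of_isProper_of_geometricallyIntegral A
  have h1 := lam_eq hL hΛi a b hΛ
  have h2 := lam_eq hL hΛi b a hΛ
  rw [_root_.mul_comm b a, ← h1, _root_.mul_comm (pl b _)] at h2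
  exact (mul_right_cancel h2).symm

include hL hΛ in
theorem lam_one_left {T : Over (Spec (CommRingCat.of K))} (b : T ⟶ A) : pl (lift 1 b) (mk Λ hΛi) = 1 := by
  have h1 := lam_mul_left hL hΛi hΛ 1 1 b
  rw [_root_.mul_one] at h1
  exact left_eq_mul.mp h1

include hL hΛ in
theorem lam_one_right {T : Over (Spec (CommRingCat.of K))} (b : T ⟶ A) : pl (lift b 1) (mk Λ hΛi) = 1 := by
  rw [lam_swap hL hΛi hΛ, lam_one_left hL hΛi hΛ]

include hL hΛ in
theorem lam_pow_left {T : Over (Spec (CommRingCat.of K))} (a b : T ⟶ A) (N : ℕ) :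
    pl (lift (a ^ N) b) (mk Λ hΛi) = pl (lift a b) (mk Λ hΛi) ^ N := by
  induction N with
  | zero => rw [pow_zero, pow_zero, lam_one_left hL hΛi hΛ]
  | succ n ih => rw [pow_succ, pow_succ, lam_mul_left hL hΛi hΛ, ih]

include hL hΛ in
theorem lam_pow_right {T : Over (Spec (CommRingCat.of K))} (a b : T ⟶ A) (N : ℕ) :
    pl (lift a (b ^ N)) (mk Λ hΛi) = pl (lift a b) (mk Λ hΛi) ^ N := by
  rw [lam_swap hL hΛi hΛ, lam_pow_left hL hΛi hΛ, lam_swap hL hΛi hΛ]

include hL hΛ in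
theorem lam_pow (N : ℕ) : pl (powL A N) (mk Λ hΛi) = pl (powR A N) (mk Λ hΛi) := by
  rw [lam_pow_left hL hΛi hΛ, lam_pow_right hL hΛi hΛ]

include hL hΛ hΛi in
theorem exists_bir_lam : Nonempty (Bir (GTor.ofMod (A ⊗ A) Λ)) :=
  exists_bir _ ((exists_obj_iff hΛi _).mpr (lam_one_left hL hΛi hΛ _))
    ((exists_obj_iff hΛi _).mpr (lam_one_right hL hΛi hΛ _))

include hL hΛ hΛi in
theorem exists_atheta_lam (D : Bir (GTor.ofMod (A ⊗ A) Λ)) (N : ℕ) : Nonempty (ATheta D N) :=
  exists_atheta hΛi D (constU A) N (lam_pow hL hΛi hΛ N)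

include hL hΛ hΛi in
theorem exists_sym_lam (D : Bir (GTor.ofMod (A ⊗ A) Λ)) : Nonempty D.Sym := by
  have hcl : pl (sw A) (mk Λ hΛi) = mk Λ hΛi := by
    rw [lam_swap hL hΛi hΛ, lift_fst_snd, pl_id]
  obtain ⟨φ, hφ, hb⟩ := exists_cart (sw A).left hΛi hΛi hcl
  let σ := GHom.ofArr (sw A) φ hφ hb
  obtain ⟨v, hv⟩ := (GTor.ofMod (A ⊗ A) Λ).trans (σ.map (D.r₁ (𝟙 A))) (D.r₂ (𝟙 A))
    (by rw [σ.pt_map, D.pt_r₁, lift_sw, D.pt_r₂])
  set c := ures (η : 𝟙_ (Over (Spec (CommRingCat.of K))) ⟶ A) v with hc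
  have hvc : v = ures (toUnit A) c := constU A v
  let w : U (A ⊗ A) := ures (toUnit (A ⊗ A)) c⁻¹
  have hφ' : IsCart (muU Λ w ≫ φ) := (isCart_muU Λ w).comp hφ
  have hb' : (muU Λ w ≫ φ).base = (sw A).left := by
    change 𝟙 _ ≫ φ.base = _
    rw [Category.id_comp, hb]
  refine ⟨⟨GHom.ofArr (sw A) (muU Λ w ≫ φ) hφ' hb', ?_⟩⟩
  intro T y
  rw [ofArr_muU (sw A) φ hφ hb w hφ' hb']
  have h1 : (GHom.ofArr (sw A) φ hφ hb).map (D.r₁ y) = (GTor.ofMod (A ⊗ A) Λ).act (ures y v) (D.r₂ y) := by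
    have h2 := congrArg ((GTor.ofMod (A ⊗ A) Λ).res y) hv
    rw [GTor.res_act, D.res_r₂, ← σ.map_res, D.res_r₁, Category.comp_id] at h2
    exact h2.symm
  rw [h1, ← GTor.act_mul, hvc, ← ures_comp, ← ures_comp, toUnit_unique (y ≫ toUnit A) (toUnit T),
    toUnit_unique ((GTor.ofMod (A ⊗ A) Λ).pt (D.r₁ y) ≫ toUnit _) (toUnit T), ← map_mul, inv_mul_cancel, map_one,
    GTor.act_one]

/-- `1 × [N]` on `T × A` is finite, flat and surjective. -/
theorem props_pow (N : ℕ) (hN : 1 ≤ N) (T : Over (Spec (CommRingCat.of K))) :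
    Flat (lift (fst T A) (snd T A ^ N)).left ∧ Surjective (lift (fst T A) (snd T A ^ N)).left ∧
      QuasiCompact (lift (fst T A) (snd T A ^ N)).left := by
  obtain ⟨h1, h2, h3⟩ := Groth.Agent.Grpsch.MulFinFlat.isFinite_flat_surjective K A N hN
  have h : IsPullback (lift (fst T A) (snd T A ^ N)).left (snd T A).left (snd T A).left (𝟙 A ^ N).left := by
    have h1 : IsPullback (lift (fst T A) (snd T A ^ N)) (snd T A) (snd T A) (𝟙 A ^ N) := by
      refine ⟨⟨by rw [lift_snd, comp_pow', Category.comp_id]⟩, ⟨?_⟩⟩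
      refine PullbackCone.IsLimit.mk _ (fun s => lift (s.fst ≫ fst T A) s.snd) ?_ ?_ ?_
      · intro s
        apply CartesianMonoidalCategory.hom_ext
        · rw [Category.assoc, lift_fst, lift_fst]
        · rw [Category.assoc, lift_snd, comp_pow', lift_snd, s.condition, comp_pow', Category.comp_id]
      · intro s
        exact lift_snd _ _
      · intro s m hm₁ hm₂
        apply CartesianMonoidalCategory.hom_ext
        · rw [lift_fst, ← hm₁, Category.assoc, lift_fst]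
        · rw [lift_snd, hm₂]
    exact h1.map (Over.forget _)
  have i1 : IsFinite (lift (fst T A) (snd T A ^ N)).left := MorphismProperty.of_isPullback h.flip h1
  exact ⟨MorphismProperty.of_isPullback h.flip h2, MorphismProperty.of_isPullback h.flip h3, inferInstance⟩

include hΛi in
theorem descPow_lam (N : ℕ) (hN : 1 ≤ N) : (GTor.ofMod (A ⊗ A) Λ).DescPow N :=
  GTor.descPow_ofMod hΛi N (props_pow N hN)

include hL hΛ hΛi in
theorem mumfordTriv_iff {T : Over (Spec (CommRingCat.of K))} (x : T ⟶ A) :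
    ThetaGrp.IsMumfordTriv A L x ↔
      ∃ q : (GTor.ofMod (A ⊗ A) Λ).obj (T ⊗ A), (GTor.ofMod (A ⊗ A) Λ).pt q = lift (fst T A ≫ x) (snd T A) := by
  have hc := isCommMonObj_of_isProper_of_geometricallyIntegral A
  rw [exists_obj_iff hΛi, isMumfordTriv_iff hL]
  have h1 := lam_eq hL hΛi (fst A T) (snd A T ≫ x) hΛ
  rw [← h1]
  have h2 : pl (lift (snd A T ≫ x) (fst A T)) (mk Λ hΛi) = pl (lift (fst A T) (snd A T ≫ x)) (mk Λ hΛi) :=
    lam_swap hL hΛi hΛ _ _
  constructor
  · intro h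
    have h3 : pl (lift (fst A T) (snd A T ≫ x)) (mk Λ hΛi) = 1 := mul_eq_right.mp h
    rw [← h2] at h3
    have h4 := congrArg (pl (lift (snd T A) (fst T A))) h3
    rwa [map_one, ← pl_comp, comp_lift, lift_snd_assoc, lift_fst] at h4
  · intro h
    have h4 := congrArg (pl (lift (snd A T) (fst A T))) h
    rw [map_one, ← pl_comp, comp_lift, lift_fst_assoc, lift_snd, h2] at h4
    rw [h4, _root_.one_mul]

include hL hΛ hΛi in
/-- The radical of the pairing `e_N` is `K(L) ∩ A[N]`. -/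
theorem mem_radical_iff [IsCommMonObj A] {D : Bir (GTor.ofMod (A ⊗ A) Λ)} {N : ℕ} (hN : 1 ≤ N) (θ : Theta D N)
    {T : Over (Spec (CommRingCat.of K))} (x : T ⟶ A) (hx : x ^ N = 1) :
    ThetaGrp.IsMumfordTriv A L x ↔
      ∀ {T' : Over (Spec (CommRingCat.of K))} (g : T' ⟶ T) (y : T' ⟶ A) (hgx : (g ≫ x) ^ N = 1) (hy : y ^ N = 1),
        θ.e (g ≫ x) y hgx hy = 1 := by
  rw [mumfordTriv_iff hL hΛi hΛ]
  constructor
  · rintro ⟨q, hq⟩ T' g y hgx hy
    refine θ.e_eq_one_of_triv (pushU A) (g ≫ x) y hgx hy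
      ((GTor.ofMod (A ⊗ A) Λ).res (lift (fst T' A ≫ g) (snd T' A)) q) ?_
    rw [GTor.pt_res, hq, comp_lift, lift_fst_assoc, lift_snd, Category.assoc]
  · intro h
    exact θ.exists_triv (pushU A) (descPow_lam hΛi N hN) x hx h

end Field

end K270.MB
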