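import Groth.Agent.GrpSch.K270.MB.Bq

/-!
# The class `Λ(c) = m^* c · p^* c⁻¹ · q^* c⁻¹`
-/

set_option autoImplicit false
universe u
open CategoryTheory CategoryTheory.Limits MonoidalCategory CartesianMonoidalCategory MonObj AlgebraicGeometry
open K999.Cart K999.EDesc K999.Scal Groth.Agent.Grpsch.PicGrp K529.KL

noncomputable section

namespace K270.MB

variable {S : Scheme.{u}}

/-- The Mumford class. -/
def lamC (X : Over S) [GrpObj X] (c : Pic X.left) : Pic (X ⊗ X).left :=
  pl (fst X X * snd X X) c * (pl (fst X X) c)⁻¹ * (pl (snd X X) c)⁻¹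

theorem mu_eq (X : Over S) [GrpObj X] : μ[X] = fst X X * snd X X := by
  rw [Hom.mul_def, lift_fst_snd, Category.id_comp]

theorem isLambdaSheaf_iff_lamC {X : Over S} [GrpObj X] {L : X.left.Modules} (hL : PicF.IsInvertible L)
    {Λ : (X ⊗ X).left.Modules} (hΛ : PicF.IsInvertible Λ) :
    AgPol.IsLambdaSheaf μ[X].left (fst X X).left (snd X X).left L Λ ↔ mk Λ hΛ = lamC X (mk L hL) := by
  rw [isLambdaSheaf_iff _ _ _ hL hΛ, lamC, ← mu_eq, eq_mul_inv_iff_mul_eq, eq_mul_inv_iff_mul_eq]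
  have h : mk Λ hΛ * pl (snd X X) (mk L hL) * pl (fst X X) (mk L hL) =
      mk Λ hΛ * pl (fst X X) (mk L hL) * pl (snd X X) (mk L hL) := mul_right_comm _ _ _
  rw [h]

theorem exists_lam {X : Over S} [GrpObj X] {L : X.left.Modules} (hL : PicF.IsInvertible L) :
    ∃ (Λ : (X ⊗ X).left.Modules) (hΛ : PicF.IsInvertible Λ),
      AgPol.IsLambdaSheaf μ[X].left (fst X X).left (snd X X).left L Λ ∧ mk Λ hΛ = lamC X (mk L hL) := by
  obtain ⟨Λ, hΛ, h⟩ := exists_mk (lamC X (mk L hL))
  exact ⟨Λ, hΛ, (isLambdaSheaf_iff_lamC hL hΛ).mpr h.symm, h.symm⟩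

theorem pl_lamC {X B : Over S} [GrpObj X] [GrpObj B] (π : X ⟶ B) [IsMonHom π] (c : Pic B.left) :
    pl (π ⊗ₘ π) (lamC B c) = lamC X (pl π c) := by
  rw [lamC, lamC, map_mul, map_mul, map_inv, map_inv, ← pl_comp, ← pl_comp, ← pl_comp, ← pl_comp, ← pl_comp,
    ← pl_comp, MonObj.comp_mul, tensorHom_fst, tensorHom_snd, MonObj.mul_comp]

variable {S' : Scheme.{u}} (k : S' ⟶ S) {X' : Over S'} {X : Over S} (q : (Over.map k).obj X' ⟶ X)

theorem pull_left_comp {X Y Z : Over S} (f : X ⟶ Y) (g : Y ⟶ Z) (c : Pic Z.left) :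
    pull (f ≫ g).left c = pull f.left (pull g.left c) := by
  rw [Over.comp_left, pull_comp]

theorem pull_lamC [GrpObj X'] [GrpObj X]
    (hmul : ∀ {T : Over S'} (a b : T ⟶ X'), dq k q (a * b) = dq k q a * dq k q b) (c : Pic X.left) :
    pull (cq k q).left (lamC X c) = lamC X' (pull q.left c) := by
  have e1 : ∀ a : X' ⊗ X' ⟶ X', pull (dq k q a).left c = pull a.left (pull q.left c) := by
    intro a
    exact pull_left_comp ((Over.map k).map a) q c
  rw [lamC, lamC, map_mul, map_mul, map_inv, map_inv]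
  have h1 : pull (cq k q).left (pl (fst X X * snd X X) c) = pull (dq k q (fst X' X' * snd X' X')).left c := by
    change pull (cq k q).left (pull (fst X X * snd X X).left c) = _
    rw [← pull_left_comp, MonObj.comp_mul, lift_fst, lift_snd, hmul]
  have h2 : pull (cq k q).left (pl (fst X X) c) = pull (dq k q (fst X' X')).left c := by
    change pull (cq k q).left (pull (fst X X).left c) = _
    rw [← pull_left_comp, lift_fst]
  have h3 : pull (cq k q).left (pl (snd X X) c) = pull (dq k q (snd X' X')).left c := by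
    change pull (cq k q).left (pull (snd X X).left c) = _
    rw [← pull_left_comp, lift_snd]
  rw [h1, h2, h3, e1, e1, e1]

theorem dq_dn {X : Over S} {T : Over S'} (x : T ⟶ Red.bc k X) : dq k (dn k (𝟙 (Red.bc k X))) x = dn k x := by
  rw [dq, ← dn_comp, Category.comp_id]

theorem pull_lamC_bc {X : Over S} [GrpObj X] (c : Pic X.left) :
    pull (cc k X).left (lamC X c) = lamC (Red.bc k X) (pull (pullback.fst X.hom k) c) := by
  have h := pull_lamC k (X' := Red.bc k X) (dn k (𝟙 (Red.bc k X)))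
    (fun a b => by rw [dq_dn, dq_dn, dq_dn, dn_mul]) c
  have e1 : cq k (dn k (𝟙 (Red.bc k X))) = cc k X := by
    rw [cq, cc, dq_dn, dq_dn]
  have e2 : (dn k (𝟙 (Red.bc k X))).left = pullback.fst X.hom k := by
    rw [dn_left]
    exact Category.id_comp _
  rw [e1, e2] at h
  exact h

end K270.MB
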