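import Groth.Agent.GrpSch.K270.MB.EPair
import Groth.Agent.ThetaGrp.K999.Scal
import Groth.Agent.ThetaGrp.K999.EDesc2

/-!
# The torsor of an invertible module

* `un T`: the object `(T, O_T)` of the total category `E`, functorial in `T : Over S` (`unm`).
* `GTor.ofMod X M`: sections over `T` are the cartesian arrows `(T, O_T) ⟶ (X, M)` over `S`.
* `GHom.ofArr`: cartesian arrows give cartesian maps.
* `descent`: sections descend along faithfully flat quasi-compact morphisms.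
-/

set_option autoImplicit false
universe u
open CategoryTheory CategoryTheory.Limits MonoidalCategory CartesianMonoidalCategory MonObj AlgebraicGeometry
open K999.Cart K999.EDesc K999.Scal

noncomputable section

namespace K270.MB

variable {S : Scheme.{u}}

/-- `(T, O_T)`. -/
abbrev un (T : Over S) : E.{u} := ob T.left ((Scheme.Modules.pullback T.hom).obj (Coh.structureModule S))

theorem isInvertible_un (T : Over S) :
    PicF.IsInvertible ((Scheme.Modules.pullback T.hom).obj (Coh.structureModule S)) :=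
  Groth.Agent.Fdesc.LocGen.isInvertible_pullback _ Groth.Agent.Fdesc.LocGen.isInvertible_structureModule

/-- `(T', O_T') ⟶ (T, O_T)`. -/
def unm {T T' : Over S} (g : T' ⟶ T) : un T' ⟶ un T :=
  (isCart_cart T.hom (Coh.structureModule S)).lift (a' := un T') g.left (cart T'.hom (Coh.structureModule S))
    (Over.w g).symm

theorem unm_base {T T' : Over S} (g : T' ⟶ T) : (unm g).base = g.left :=
  (isCart_cart T.hom (Coh.structureModule S)).lift_base (a' := un T') g.left (cart T'.hom (Coh.structureModule S))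
    (Over.w g).symm

theorem unm_cart {T T' : Over S} (g : T' ⟶ T) :
    unm g ≫ cart T.hom (Coh.structureModule S) = cart T'.hom (Coh.structureModule S) :=
  (isCart_cart T.hom (Coh.structureModule S)).lift_comp (a' := un T') g.left (cart T'.hom (Coh.structureModule S))
    (Over.w g).symm

theorem isCart_unm {T T' : Over S} (g : T' ⟶ T) : IsCart (unm g) :=
  (isCart_cart T.hom (Coh.structureModule S)).of_comp (by rw [unm_cart]; exact isCart_cart _ _)

theorem unm_id (T : Over S) : unm (𝟙 T) = 𝟙 (un T) :=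
  (isCart_cart T.hom (Coh.structureModule S)).ext (by rw [unm_base]; rfl) (by rw [unm_cart, Category.id_comp])

theorem unm_comp {T T' T'' : Over S} (g : T' ⟶ T) (h : T'' ⟶ T') : unm (h ≫ g) = unm h ≫ unm g :=
  (isCart_cart T.hom (Coh.structureModule S)).ext
    (by rw [unm_base]; change _ = (unm h).base ≫ (unm g).base; rw [unm_base, unm_base]; rfl)
    (by rw [unm_cart, Category.assoc, unm_cart, unm_cart])

/-- The unit arrow. -/
abbrev muU {X : Scheme.{u}} (M : X.Modules) (v : Γ(X, ⊤)ˣ) : ob X M ⟶ ob X M := mu M (v : Γ(X, ⊤))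

theorem muU_mul {X : Scheme.{u}} (M : X.Modules) (v w : Γ(X, ⊤)ˣ) : muU M (v * w) = muU M v ≫ muU M w := by
  rw [muU, Units.val_mul, mu_mul]

theorem muU_one {X : Scheme.{u}} (M : X.Modules) : muU M (1 : Γ(X, ⊤)ˣ) = 𝟙 _ := by
  rw [muU, Units.val_one, mu_one]

theorem isCart_muU {X : Scheme.{u}} (M : X.Modules) (v : Γ(X, ⊤)ˣ) : IsCart (muU M v) := by
  have : IsIso (muU M v) := ⟨muU M v⁻¹, by rw [← muU_mul, mul_inv_cancel, muU_one],
    by rw [← muU_mul, inv_mul_cancel, muU_one]⟩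
  exact IsCart.of_isIso _

/-- Two cartesian arrows with invertible source over the same morphism differ by a unit. -/
theorem exists_muU {X Y : Scheme.{u}} {M : X.Modules} {N : Y.Modules} (hM : PicF.IsInvertible M)
    {a b : ob X M ⟶ ob Y N} (ha : IsCart a) (hb : IsCart b) (h : a.base = b.base) :
    ∃ v : Γ(X, ⊤)ˣ, muU M v ≫ b = a := by
  let χ : ob X M ⟶ ob X M := hb.lift (a' := ob X M) (𝟙 X) a (by rw [h, Category.id_comp])
  have hχb : χ.base = 𝟙 X := hb.lift_base _ _ _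
  have hχ : χ ≫ b = a := hb.lift_comp _ _ _
  let χ' : ob X M ⟶ ob X M := ha.lift (a' := ob X M) (𝟙 X) b (by rw [h, Category.id_comp])
  have hχb' : χ'.base = 𝟙 X := ha.lift_base _ _ _
  have hχ' : χ' ≫ a = b := ha.lift_comp _ _ _
  obtain ⟨v, hv⟩ := exists_mu hM χ hχb
  obtain ⟨w, hw⟩ := exists_mu hM χ' hχb'
  have h1 : χ ≫ χ' = 𝟙 _ := ha.ext (by
    change χ.base ≫ χ'.base = 𝟙 X
    rw [hχb, hχb', Category.comp_id]) (by rw [Category.assoc, hχ', hχ, Category.id_comp])
  have h2 : χ' ≫ χ = 𝟙 _ := hb.ext (by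
    change χ'.base ≫ χ.base = 𝟙 X
    rw [hχb, hχb', Category.comp_id]) (by rw [Category.assoc, hχ, hχ', Category.id_comp])
  rw [hv, hw, ← mu_mul, ← mu_one] at h1 h2
  exact ⟨⟨v, w, mu_inj hM h1, mu_inj hM h2⟩, by rw [← hχ, hv]⟩

/-- The torsor of a module. -/
def GTor.ofMod (X : Over S) (M : X.left.Modules) : GTor X where
  obj T := {a : un T ⟶ ob X.left M // IsCart a ∧ a.base ≫ X.hom = T.hom}
  pt a := Over.homMk a.1.base a.2.2
  res g a := ⟨unm g ≫ a.1, (isCart_unm g).comp a.2.1, by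
    change ((unm g).base ≫ a.1.base) ≫ X.hom = _
    rw [unm_base, Category.assoc, a.2.2, Over.w]⟩
  act v a := ⟨muU _ v ≫ a.1, (isCart_muU _ v).comp a.2.1, by
    change (𝟙 _ ≫ a.1.base) ≫ X.hom = _
    rw [Category.id_comp, a.2.2]⟩
  pt_res g a := by
    apply Over.OverMorphism.ext
    change (unm g).base ≫ a.1.base = g.left ≫ a.1.base
    rw [unm_base]
  pt_act v a := by
    apply Over.OverMorphism.ext
    change 𝟙 _ ≫ a.1.base = a.1.base
    rw [Category.id_comp]
  res_id a := Subtype.ext (by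
    change unm (𝟙 _) ≫ a.1 = a.1
    rw [unm_id, Category.id_comp])
  res_comp g h a := Subtype.ext (by
    change unm (h ≫ g) ≫ a.1 = unm h ≫ unm g ≫ a.1
    rw [unm_comp, Category.assoc])
  act_one a := Subtype.ext (by
    change muU _ 1 ≫ a.1 = a.1
    rw [muU_one, Category.id_comp])
  act_mul v w a := Subtype.ext (by
    change muU _ (v * w) ≫ a.1 = muU _ v ≫ muU _ w ≫ a.1
    rw [muU_mul, Category.assoc])
  res_act g v a := Subtype.ext (by
    change unm g ≫ muU _ v ≫ a.1 = muU _ (ures g v) ≫ unm g ≫ a.1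
    rw [← Category.assoc, muU, mu_nat, Category.assoc]
    congr 2
    rw [unm_base]
    rfl)
  act_inj v w a h := by
    have h1 : muU _ v ≫ a.1 = muU _ w ≫ a.1 := congrArg Subtype.val h
    have h2 := a.2.1.ext (χ := muU _ v) (χ' := muU _ w) rfl h1
    exact Units.ext (mu_inj (isInvertible_un _) h2)
  trans a b h := by
    have h1 : a.1.base = b.1.base := congrArg (fun z => z.left) h
    obtain ⟨v, hv⟩ := exists_muU (isInvertible_un _) a.2.1 b.2.1 h1
    exact ⟨v, Subtype.ext hv⟩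

variable {X Y : Over S} {M : X.left.Modules} {N : Y.left.Modules}

theorem GTor.ofMod_pt_left {T : Over S} (a : (GTor.ofMod X M).obj T) : ((GTor.ofMod X M).pt a).left = a.1.base := rfl

/-- A cartesian arrow gives a cartesian map. -/
def GHom.ofArr (f : X ⟶ Y) (φ : ob X.left M ⟶ ob Y.left N) (hφ : IsCart φ) (hb : φ.base = f.left) :
    GHom (GTor.ofMod X M) (GTor.ofMod Y N) f where
  map a := ⟨a.1 ≫ φ, a.2.1.comp hφ, by
    change (a.1.base ≫ φ.base) ≫ Y.hom = _
    rw [hb, Category.assoc, Over.w, a.2.2]⟩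
  pt_map w := by
    apply Over.OverMorphism.ext
    change w.1.base ≫ φ.base = w.1.base ≫ f.left
    rw [hb]
  map_res g w := Subtype.ext (Category.assoc _ _ _)
  map_act v w := Subtype.ext (Category.assoc _ _ _)
  lift {T} z a h := by
    have hz : a.1.base = z.left ≫ φ.base := by
      have := congrArg (fun z => z.left) h
      change a.1.base = z.left ≫ f.left at this
      rw [this, hb]
    let χ : un T ⟶ ob X.left M := hφ.lift (a' := un T) z.left a.1 hz
    have h1 : χ.base = z.left := hφ.lift_base _ _ _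
    have h2 : χ ≫ φ = a.1 := hφ.lift_comp _ _ _
    refine ⟨⟨χ, hφ.of_comp (by rw [h2]; exact a.2.1), ?_⟩, ?_, ?_⟩
    · rw [h1, Over.w]
    · apply Over.OverMorphism.ext
      exact h1
    · exact Subtype.ext h2

theorem isQuasicoherent_of_isInvertible {X : Scheme.{u}} {L : X.Modules} (hL : PicF.IsInvertible L) :
    L.IsQuasicoherent := Groth.Agent.Ega2.QCohLocal.isQCoh_of_isInvertible hL

/-- Cartesian arrows descend along faithfully flat quasi-compact morphisms. -/
theorem desc_aux {T T' : Over S} (g : T' ⟶ T) (hf : Flat g.left) (hs : Surjective g.left)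
    (hq : QuasiCompact g.left) {Q : T.left.Modules} (hQ : PicF.IsInvertible Q) (a : un T' ⟶ ob T.left Q)
    (ha : IsCart a) (hab : a.base = g.left)
    (H : ∀ {T'' : Over S} (h₁ h₂ : T'' ⟶ T'), h₁ ≫ g = h₂ ≫ g → unm h₁ ≫ a = unm h₂ ≫ a) :
    ∃ ψ : un T ⟶ ob T.left Q, ψ.base = 𝟙 _ ∧ unm g ≫ ψ = a ∧ IsCart ψ := by
  have hqc : ((Scheme.Modules.pullback T.hom).obj (Coh.structureModule S)).IsQuasicoherent :=
    isQuasicoherent_of_isInvertible (isInvertible_un T)
  have hqQ : Q.IsQuasicoherent := isQuasicoherent_of_isInvertible hQ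
  -- the pairs
  have key : ∀ (W : Scheme.{u}) (K : W.Modules) (α₁ α₂ : ob W K ⟶ un T'), α₁.base ≫ g.left = α₂.base ≫ g.left →
      ∃ (T'' : Over S) (h₁ h₂ : T'' ⟶ T') (χ₁ χ₂ : ob W K ⟶ un T''), h₁ ≫ g = h₂ ≫ g ∧ χ₁.base = χ₂.base ∧
        χ₁ ≫ unm h₁ = α₁ ∧ χ₂ ≫ unm h₂ = α₂ := by
    intro W K α₁ α₂ h
    let T'' : Over S := Over.mk (α₁.base ≫ T'.hom)
    let h₁ : T'' ⟶ T' := Over.homMk α₁.base rfl
    let h₂ : T'' ⟶ T' := Over.homMk α₂.base (by
      rw [← Over.w g, ← Category.assoc, ← h, Category.assoc, Over.w]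
      rfl)
    let χ₁ : ob W K ⟶ un T'' := (isCart_unm h₁).lift (a' := ob W K) (𝟙 W) α₁ (by
      rw [unm_base]; exact (Category.id_comp _).symm)
    have e₁ : χ₁.base = 𝟙 W := (isCart_unm h₁).lift_base _ _ _
    let χ₂ : ob W K ⟶ un T'' := (isCart_unm h₂).lift (a' := ob W K) (𝟙 W) α₂ (by
      rw [unm_base]; exact (Category.id_comp _).symm)
    have e₂ : χ₂.base = 𝟙 W := (isCart_unm h₂).lift_base _ _ _
    exact ⟨T'', h₁, h₂, χ₁, χ₂, Over.OverMorphism.ext h, e₁.trans e₂.symm, (isCart_unm h₁).lift_comp _ _ _,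
      (isCart_unm h₂).lift_comp _ _ _⟩
  have H₁ : ∀ (W : Scheme.{u}) (K : W.Modules) (α₁ α₂ : ob W K ⟶ un T'), α₁ ≫ unm g = α₂ ≫ unm g →
      α₁ ≫ a = α₂ ≫ a := by
    intro W K α₁ α₂ h
    have hb : α₁.base ≫ g.left = α₂.base ≫ g.left := by
      have h1 : (α₁ ≫ unm g).base = (α₂ ≫ unm g).base := by rw [h]
      change α₁.base ≫ (unm g).base = α₂.base ≫ (unm g).base at h1
      rwa [unm_base] at h1
    obtain ⟨T'', h₁, h₂, χ₁, χ₂, hg, hχ, rfl, rfl⟩ := key W K α₁ α₂ hb
    have h3 : χ₁ = χ₂ := (isCart_unm (h₁ ≫ g)).ext hχ (by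
      rw [unm_comp, ← Category.assoc, h, Category.assoc, ← unm_comp, ← unm_comp, hg])
    rw [Category.assoc, Category.assoc, H h₁ h₂ hg, h3]
  have H₂ : ∀ (W : Scheme.{u}) (K : W.Modules) (α₁ α₂ : ob W K ⟶ un T'), α₁ ≫ a = α₂ ≫ a →
      α₁ ≫ unm g = α₂ ≫ unm g := by
    intro W K α₁ α₂ h
    have hb : α₁.base ≫ g.left = α₂.base ≫ g.left := by
      have h1 : (α₁ ≫ a).base = (α₂ ≫ a).base := by rw [h]
      change α₁.base ≫ a.base = α₂.base ≫ a.base at h1
      rwa [hab] at h1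
    obtain ⟨T'', h₁, h₂, χ₁, χ₂, hg, hχ, rfl, rfl⟩ := key W K α₁ α₂ hb
    have h3 : χ₁ = χ₂ := ((isCart_unm h₁).comp ha).ext hχ (by
      rw [← Category.assoc, h, Category.assoc, H h₁ h₂ hg])
    rw [Category.assoc, Category.assoc, ← unm_comp, ← unm_comp, hg, h3]
  obtain ⟨ψ, ⟨h1, h2⟩, -⟩ := desc_arrow g.left (isCart_unm g) (unm_base g) (𝟙 _) (θ := a)
    (by rw [hab, Category.comp_id]) H₁
  obtain ⟨ψ', ⟨h1', h2'⟩, -⟩ := desc_arrow g.left ha hab (𝟙 _) (θ := unm g)
    (by rw [unm_base, Category.comp_id]) H₂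
  obtain ⟨χ, -, hu⟩ := desc_arrow g.left (isCart_unm g) (unm_base g) (𝟙 _) (θ := unm g)
    (by rw [unm_base, Category.comp_id]) (fun W K α₁ α₂ h => h)
  obtain ⟨χ', -, hu'⟩ := desc_arrow g.left ha hab (𝟙 _) (θ := a)
    (by rw [hab, Category.comp_id]) (fun W K α₁ α₂ h => h)
  have i1 : ψ ≫ ψ' = 𝟙 _ := by
    rw [hu (ψ ≫ ψ') ⟨by change ψ.base ≫ ψ'.base = _; rw [h1, h1', Category.comp_id], by
      rw [← Category.assoc, h2, h2']⟩, hu (𝟙 _) ⟨rfl, Category.comp_id _⟩]
  have i2 : ψ' ≫ ψ = 𝟙 _ := by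
    rw [hu' (ψ' ≫ ψ) ⟨by change ψ'.base ≫ ψ.base = _; rw [h1, h1', Category.comp_id], by
      rw [← Category.assoc, h2', h2]⟩, hu' (𝟙 _) ⟨rfl, Category.comp_id _⟩]
  have : IsIso ψ := ⟨ψ', i1, i2⟩
  exact ⟨ψ, h1, h2, IsCart.of_isIso ψ⟩

/-- Sections descend along faithfully flat quasi-compact morphisms. -/
theorem GTor.ofMod_desc (hM : PicF.IsInvertible M) {T T' : Over S} (g : T' ⟶ T) (hf : Flat g.left)
    (hs : Surjective g.left) (hq : QuasiCompact g.left) (a : (GTor.ofMod X M).obj T') (z : T ⟶ X)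
    (hz : (GTor.ofMod X M).pt a = g ≫ z)
    (H : ∀ {T'' : Over S} (h₁ h₂ : T'' ⟶ T'), h₁ ≫ g = h₂ ≫ g → (GTor.ofMod X M).res h₁ a = (GTor.ofMod X M).res h₂ a) :
    ∃ b : (GTor.ofMod X M).obj T, (GTor.ofMod X M).pt b = z ∧ (GTor.ofMod X M).res g b = a := by
  have hz' : a.1.base = g.left ≫ (cart z.left M).base := congrArg (fun z => z.left) hz
  let a' : un T' ⟶ ob T.left ((Scheme.Modules.pullback z.left).obj M) :=
    (isCart_cart z.left M).lift (a' := un T') g.left a.1 hz'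
  have h1 : a'.base = g.left := (isCart_cart z.left M).lift_base _ _ _
  have h2 : a' ≫ cart z.left M = a.1 := (isCart_cart z.left M).lift_comp _ _ _
  have h3 : IsCart a' := (isCart_cart z.left M).of_comp (by rw [h2]; exact a.2.1)
  obtain ⟨ψ, i1, i2, i3⟩ := desc_aux g hf hs hq (Groth.Agent.Fdesc.LocGen.isInvertible_pullback _ hM) a' h3 h1 (by
    intro T'' h₁ h₂ hh
    apply (isCart_cart z.left M).ext
    · change (unm h₁).base ≫ a'.base = (unm h₂).base ≫ a'.base
      rw [unm_base, unm_base, h1]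
      exact congrArg (fun z => z.left) hh
    · rw [Category.assoc, Category.assoc, h2]
      exact congrArg Subtype.val (H h₁ h₂ hh))
  refine ⟨⟨ψ ≫ cart z.left M, i3.comp (isCart_cart _ _), ?_⟩, ?_, ?_⟩
  · change (ψ.base ≫ z.left) ≫ X.hom = _
    rw [i1, Category.id_comp, Over.w]
  · apply Over.OverMorphism.ext
    change ψ.base ≫ z.left = _
    rw [i1, Category.id_comp]
  · apply Subtype.ext
    change unm g ≫ ψ ≫ cart z.left M = a.1
    rw [← Category.assoc, i2, h2]

/-- Descent along `[N]`. -/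
theorem GTor.descPow_ofMod {X : Over S} [GrpObj X] {M : (X ⊗ X).left.Modules} (hM : PicF.IsInvertible M) (N : ℕ)
    (hN : ∀ T : Over S, Flat (lift (fst T X) (snd T X ^ N)).left ∧ Surjective (lift (fst T X) (snd T X ^ N)).left ∧
      QuasiCompact (lift (fst T X) (snd T X ^ N)).left) :
    (GTor.ofMod (X ⊗ X) M).DescPow N := by
  intro T z a hz H
  obtain ⟨h1, h2, h3⟩ := hN T
  obtain ⟨b, hb, -⟩ := GTor.ofMod_desc hM _ h1 h2 h3 a z hz H
  exact ⟨b, hb⟩

end K270.MB
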