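import Groth.Agent.GrpSch.K270.MB.Shape4
import Groth.Agent.GrpSch.K404.SemiAb
import Groth.Agent.GrpSch.K86.NodePic

/-!
# The data over a henselian discrete valuation ring
-/

set_option autoImplicit false
universe u
open CategoryTheory CategoryTheory.Limits MonoidalCategory CartesianMonoidalCategory MonObj AlgebraicGeometry
open K999.Cart K999.EDesc K999.Scal Groth.Agent.Grpsch.PicGrp K529.KL

noncomputable section

namespace K270.MB

/-- A prime different from the characteristic. -/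
theorem exists_ell (k : Type u) [Field k] : ∃ ℓ : ℕ, ℓ.Prime ∧ (ℓ : k) ≠ 0 := by
  by_cases h : ((2 : ℕ) : k) = 0
  · refine ⟨3, Nat.prime_three, fun h3 => ?_⟩
    have h1 : (1 : k) = ((3 : ℕ) : k) - ((2 : ℕ) : k) := by push_cast; ring
    rw [h3, h, sub_zero] at h1
    exact one_ne_zero h1
  · exact ⟨2, Nat.prime_two, h⟩

/-- The theta pairing on `A` over a discrete valuation ring: skew-symmetry on the generic fibre. -/
theorem skew_generic {S S' : Scheme.{u}} (k : S' ⟶ S) {A : Over S} [GrpObj A]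
    {P : GTor (A ⊗ A)} {P' : GTor (Red.bc k A ⊗ Red.bc k A)} (io : GBc k P' P (cc k A)) {D : Bir P} {D' : Bir P'} {N : ℕ}
    (θ : Theta D N) (θ' : Theta D' N) (s : D'.Sym) (hU : PushU (Red.bc k A)) {T : Over S'} (x y : T ⟶ Red.bc k A)
    (hx' : dn k x ^ N = 1) (hy' : dn k y ^ N = 1) :
    θ.e (T := (Over.map k).obj T) (dn k x) (dn k y) hx' hy' * θ.e (T := (Over.map k).obj T) (dn k y) (dn k x) hy' hx'
      = 1 := by
  have hx : x ^ N = 1 := dn_inj k (by rw [dn_pow, hx', dn_one])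
  have hy : y ^ N = 1 := dn_inj k (by rw [dn_pow, hy', dn_one])
  rw [← θ.e_bc k io θ' hU x y hx hy hx' hy', ← θ.e_bc k io θ' hU y x hy hx hy' hx']
  exact θ'.e_skew hU s x y hx hy

theorem packV (hKM : NodeKMFin.{u}) (hTP : NodeTPair.{u}) : NodePackV.{u} := by
  intro V _ _ _ _ _ A _ hA hprop L hL Kl _ j hj hKl hfin Λ hΛ hlam D
  have a1 := hA.comm
  have a2 := hA.smooth
  have a3 := hA.sep
  have a4 := hA.qc
  have a5 := hA.conn
  have hAK := hA.bc (gen V)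
  have hgi := hAK.gi
  have hcommK := hAK.comm
  have hΛs := (isLambdaSheaf_iff_lamC hL hΛ).mpr hlam
  have hcl : ∀ N : ℕ, pl (powL (Red.bc (gen V) A) N) (mk Λ hΛ) = pl (powR (Red.bc (gen V) A) N) (mk Λ hΛ) :=
    fun N => lam_pow hL hΛ hΛs N
  obtain ⟨P, κ, DV, hP, hκ, hκb, hθ⟩ := K388.DvrDatum.main (K := FractionRing V) (k := gen V) rfl A Λ hΛ D hcl
    (constU (Red.bc (gen V) A))
  have hκb' : κ.base = (cc (gen V) A).left := hκb.trans (pr2_eq (gen V) A)
  let io := GBc.ofArr (gen V) (cc (gen V) A) κ hκ hκb'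
  -- the class on `A`
  obtain ⟨c, hc⟩ := exists_lift_class hA hL
  obtain ⟨LV, hLV, rfl⟩ := exists_mk c
  have hPc : mk P hP = lamC A (mk LV hLV) := by
    apply pull_cc_injective hA
    have e1 : pull (cc (gen V) A).left (mk P hP) = mk Λ hΛ := K388.DvrDatum.mk_of_cart hΛ hP hκ hκb'
    have e2 := pull_lamC_bc (gen V) (X := A) (mk LV hLV)
    rw [hc, ← hlam] at e2
    exact e1.trans e2.symm
  -- the closed fibre
  let res := sp (IsLocalRing.residue V)
  have hAk := hA.bc res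
  have b1 := hAk.comm
  have b2 := hAk.smooth
  have b3 := hAk.sep
  have b4 := hAk.qc
  have b5 := hAk.connectedSpace
  obtain ⟨r, T, B, gT, gB, χ, τ, π, hS⟩ := K404.MB.nodeSemiAb (IsLocalRing.ResidueField V) (Red.bc res A) b2 b3 b4 b5
    hAk.rank
  obtain ⟨M, hM, ⟨iM⟩⟩ := K86.NodePic.main (IsLocalRing.ResidueField V) (Red.bc res A) T B b2 b3 b4 b5 r χ τ π hS
    ((Scheme.Modules.pullback (pullback.fst A.hom res)).obj LV)
    (Groth.Agent.Fdesc.LocGen.isInvertible_pullback _ hLV)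
  have hMc : pl π (mk M hM) = pull (pullback.fst A.hom res) (mk LV hLV) := by
    rw [pull_mk, pull_mk, mk_eq_iff]
    exact ⟨iM⟩
  have c1 := hS.proper
  have c2 := hS.gi
  have c3 := hS.mon
  have c4 : IsCommMonObj B := isCommMonObj_of_isProper_of_geometricallyIntegral B
  obtain ⟨ΛM, hΛM, hΛMs, hΛMc⟩ := exists_lam (X := B) hM
  obtain ⟨DB⟩ := exists_bir_lam hM hΛM hΛMs
  have hθB : ∀ N : ℕ, Nonempty (ATheta DB N) := exists_atheta_lam hM hΛM hΛMs DB
  let θB : ∀ N : ℕ, ATheta DB N := fun N => (hθB N).some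
  let θV : ∀ N : ℕ, ATheta DV N := fun N => (hθ N).some
  have hUB : PushU B := pushU B
  -- the comparison
  have hP' := Groth.Agent.Fdesc.LocGen.isInvertible_pullback (cc res A).left hP
  have hcls : pull (π ⊗ₘ π).left (mk ΛM hΛM) = mk _ hP' := by
    have e1 := pl_lamC π (mk M hM)
    rw [hMc, ← hΛMc] at e1
    have e2 := pull_lamC_bc res (X := A) (mk LV hLV)
    rw [← hPc] at e2
    refine e1.trans (e2.symm.trans ?_)
    rw [pull_mk]
  obtain ⟨ψ, hψ, hψb⟩ := exists_cart (π ⊗ₘ π).left hP' hΛM hcls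
  have hAx : AxesU (Red.bc res A) := K404.MB.nodeUnits (IsLocalRing.ResidueField V) (Red.bc res A) b2 b3 b4 b5
  have hclosed : ∀ (N : ℕ) {T' : Over (Spec (CommRingCat.of (IsLocalRing.ResidueField V)))}
        (x y : T' ⟶ Red.bc res A) (hx : x ^ N = 1) (hy : y ^ N = 1)
        (hx' : dn res x ^ N = 1) (hy' : dn res y ^ N = 1)
        (hx'' : (x ≫ π) ^ N = 1) (hy'' : (y ≫ π) ^ N = 1),
        (θV N).toTheta.e (T := (Over.map res).obj T') (dn res x) (dn res y) hx' hy' =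
          (θB N).toTheta.e (x ≫ π) (y ≫ π) hx'' hy'' := by
    intro N T' x y hx hy hx' hy' hx'' hy''
    exact (e_closed res DV (cart (cc res A).left P) (isCart_cart _ _) rfl π DB ψ hψ hψb (θV N) (θB N) hAx x y hx hy hx' hy'
      hx'' hy'').symm
  -- the exponent
  obtain ⟨ℓ, hℓ, hℓ0⟩ := exists_ell (IsLocalRing.ResidueField V)
  have hUK : PushU (Red.bc (gen V) A) := pushU _
  obtain ⟨s⟩ := exists_sym_lam hL hΛ hΛs D
  have hθK : ∀ N : ℕ, Nonempty (ATheta D N) := exists_atheta_lam hL hΛ hΛs D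
  let θK : ∀ N : ℕ, Theta D N := fun N => (hθK N).some.toTheta
  have hpos : ∀ m, 1 ≤ ℓ ^ m := fun m => Nat.one_le_pow _ _ hℓ.pos
  have hE : ∀ m : ℕ, ∃ E : TPairing A (ℓ ^ m), (∀ {T : Over (Spec (CommRingCat.of V))} (x y : T ⟶ A)
        (hx : x ^ (ℓ ^ m) = 1) (hy : y ^ (ℓ ^ m) = 1),
        E.e x y hx hy = (θV (ℓ ^ m)).toTheta.e x y hx hy) ∧
      ∀ {T : Over (Spec (CommRingCat.of V))} (x y : T ⟶ A) (hx : x ^ (ℓ ^ m) = 1) (hy : y ^ (ℓ ^ m) = 1),
        E.e x y hx hy * E.e y x hy hx = 1 := by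
    intro m
    exact hTP V (FractionRing V) A a2 a3 a4 hA.rank hUK P hP DV (ℓ ^ m) (hpos m) (θV (ℓ ^ m)).toTheta
      (fun x y hx hy => skew_generic (gen V) io (θV (ℓ ^ m)).toTheta (θK (ℓ ^ m)) s hUK x y hx hy)
  choose E hE₁ hE₂ using hE
  obtain ⟨n, hn, hn'⟩ := hKM V (FractionRing V) A a2 a3 a4 a5 hA.rank hprop T B r χ τ π hS ℓ hℓ hℓ0 M hM E
    (fun m => hE₂ m) Kl j ⟨hj, hKl.closed⟩ hfin (by
      intro m T x hx h
      apply (hKl.univ _ x).mp
      rw [mem_radical_iff hL hΛ hΛs (hpos m) (θK (ℓ ^ m)) x hx]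
      intro T' g y hgx hy
      have hgx' : dn (gen V) (g ≫ x) ^ (ℓ ^ m) = 1 := by rw [← dn_pow, hgx, dn_one]
      have hy' : dn (gen V) y ^ (ℓ ^ m) = 1 := by rw [← dn_pow, hy, dn_one]
      rw [(θV (ℓ ^ m)).toTheta.e_bc (gen V) io (θK (ℓ ^ m)) hUK (g ≫ x) y hgx hy hgx' hy', ← hE₁]
      exact h g y hy hgx' hy') (by
      intro m T x y hx hy hx' hy' htriv
      have hxπ : (x ≫ π) ^ (ℓ ^ m) = 1 := by rw [← pow_comp', hx, MonObj.one_comp]
      have hyπ : (y ≫ π) ^ (ℓ ^ m) = 1 := by rw [← pow_comp', hy, MonObj.one_comp]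
      rw [hE₁, hclosed (ℓ ^ m) x y hx hy hx' hy' hxπ hyπ]
      have h := (mem_radical_iff hM hΛM hΛMs (hpos m) (θB (ℓ ^ m)).toTheta (x ≫ π) hxπ).mp htriv (𝟙 _) (y ≫ π)
        (by rw [Category.id_comp, hxπ]) hyπ
      refine Eq.trans ?_ h
      exact (θB (ℓ ^ m)).toTheta.e_congr' (Category.id_comp _).symm rfl _ _)
  refine ⟨P, DV, fun N => (θV N).toTheta, io, r, T, B, gT, gB, χ, τ, π, n, fun N => (θB N).toTheta.pairing hUB, hS, hn,
    ?_, ?_⟩
  · intro N hN T' z hz h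
    exact hn' z ((mem_radical_iff hM hΛM hΛMs hN (θB N).toTheta z hz).mpr h)
  · intro N hN T' x y hx hy hx' hy' hx'' hy''
    exact hclosed N x y hx hy hx' hy' hx'' hy''

end K270.MB
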