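import Groth.Agent.GrpSch.K270.MB.Good

/-!
# Composite base change, and transport of semi-abelian data
-/

set_option autoImplicit false
universe u
open CategoryTheory CategoryTheory.Limits MonoidalCategory CartesianMonoidalCategory MonObj AlgebraicGeometry
open K999.Cart K999.EDesc K999.Scal Groth.Agent.Grpsch.PicGrp K529.KL

noncomputable section

namespace K270.MB

theorem isMonHom_of_pts {S : Scheme.{u}} {X Y : Over S} [GrpObj X] [GrpObj Y] (f : X ⟶ Y)
    (h : ∀ {T : Over S} (a b : T ⟶ X), (a * b) ≫ f = (a ≫ f) * (b ≫ f)) : IsMonHom f where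
  one_hom := by
    have h1 := h (1 : 𝟙_ (Over S) ⟶ X) 1
    rw [_root_.mul_one] at h1
    have h2 : (1 : 𝟙_ (Over S) ⟶ X) ≫ f = 1 := left_eq_mul.mp h1
    rwa [← η_eq_one, ← η_eq_one] at h2
  mul_hom := by
    rw [mu_eq, mu_eq, h, MonObj.comp_mul, tensorHom_fst, tensorHom_snd]

section Sg

variable {S S₁ S₂ : Scheme.{u}} {v : S₁ ⟶ S} {res : S₂ ⟶ S₁} {w : S₂ ⟶ S} (hw : w = res ≫ v)

include hw in
theorem cw_aux (T : Over S₂) : (T.hom ≫ res) ≫ v = T.hom ≫ w := by
  rw [hw, Category.assoc]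

/-- The comparison of the structures. -/
abbrev cw (T : Over S₂) : (Over.map v).obj ((Over.map res).obj T) ⟶ (Over.map w).obj T := cst (cw_aux hw T)

/-- The comparison of the structures. -/
abbrev cw' (T : Over S₂) : (Over.map w).obj T ⟶ (Over.map v).obj ((Over.map res).obj T) := cst (cw_aux hw T).symm

theorem cw_nat {T T' : Over S₂} (f : T' ⟶ T) :
    (Over.map v).map ((Over.map res).map f) ≫ cw hw T = cw hw T' ≫ (Over.map w).map f := by
  apply Over.OverMorphism.ext
  exact (Category.comp_id f.left).trans (Category.id_comp f.left).symm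

theorem cw'_nat {T T' : Over S₂} (f : T' ⟶ T) :
    (Over.map w).map f ≫ cw' hw T = cw' hw T' ≫ (Over.map v).map ((Over.map res).map f) := by
  apply Over.OverMorphism.ext
  exact (Category.comp_id f.left).trans (Category.id_comp f.left).symm

theorem cw_cw' (T : Over S₂) : cw hw T ≫ cw' hw T = 𝟙 _ := by
  apply Over.OverMorphism.ext
  exact Category.comp_id (𝟙 T.left)

theorem cw'_cw (T : Over S₂) : cw' hw T ≫ cw hw T = 𝟙 _ := by
  apply Over.OverMorphism.ext
  exact Category.comp_id (𝟙 T.left)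

variable (A : Over S)

/-- `A_{S₂} ⟶ (A_{S₁})_{S₂}`. -/
def sg : Red.bc w A ⟶ Red.bc res (Red.bc v A) := upp res (upp v (cw hw _ ≫ dn w (𝟙 _)))

/-- `(A_{S₁})_{S₂} ⟶ A_{S₂}`. -/
def sg' : Red.bc res (Red.bc v A) ⟶ Red.bc w A := upp w (cw' hw _ ≫ dn v (dn res (𝟙 _)))

variable {A}

theorem comp_sg {T : Over S₂} (x : T ⟶ Red.bc w A) : x ≫ sg hw A = upp res (upp v (cw hw T ≫ dn w x)) := by
  rw [sg, ← upp_comp, ← upp_comp, ← Category.assoc, cw_nat, Category.assoc, ← dn_comp, Category.comp_id]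

theorem comp_sg' {T : Over S₂} (x : T ⟶ Red.bc res (Red.bc v A)) :
    x ≫ sg' hw A = upp w (cw' hw T ≫ dn v (dn res x)) := by
  rw [sg', ← upp_comp, ← Category.assoc, cw'_nat, Category.assoc, ← dn_comp, ← dn_comp, Category.comp_id]

theorem dn_comp_sg {T : Over S₂} (x : T ⟶ Red.bc w A) : dn v (dn res (x ≫ sg hw A)) = cw hw T ≫ dn w x := by
  rw [comp_sg, dn_upp, dn_upp]

theorem dn_comp_sg' {T : Over S₂} (x : T ⟶ Red.bc res (Red.bc v A)) :
    dn w (x ≫ sg' hw A) = cw' hw T ≫ dn v (dn res x) := by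
  rw [comp_sg', dn_upp]

theorem sg_sg' : sg hw A ≫ sg' hw A = 𝟙 _ := by
  have h := comp_sg' hw (𝟙 (Red.bc w A) ≫ sg hw A)
  rw [dn_comp_sg, ← Category.assoc, cw'_cw, Category.id_comp, Category.id_comp, upp_dn] at h
  exact h

theorem sg'_sg : sg' hw A ≫ sg hw A = 𝟙 _ := by
  have h := comp_sg hw (𝟙 (Red.bc res (Red.bc v A)) ≫ sg' hw A)
  rw [dn_comp_sg', ← Category.assoc, cw_cw', Category.id_comp, Category.id_comp, upp_dn, upp_dn] at h
  exact h

instance : IsIso (sg hw A) := ⟨sg' hw A, sg_sg' hw, sg'_sg hw⟩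

instance [GrpObj A] : IsMonHom (sg hw A) := isMonHom_of_pts _ fun a b => by
  rw [comp_sg, comp_sg, comp_sg, dn_mul, MonObj.comp_mul, upp_mul, upp_mul]

theorem map_sg {A F : Over S} (f : F ⟶ A) {T : Over S₂} (x : T ⟶ Red.bc w F) :
    (x ≫ (Over.pullback w).map f) ≫ sg hw A = upp res (upp v ((cw hw T ≫ dn w x) ≫ f)) := by
  rw [comp_sg, dn_map, Category.assoc]

end Sg

theorem IsSemiAb.transport {k : Type u} [Field k] {G G' T B : Over (Spec (CommRingCat.of k))} [GrpObj G] [GrpObj G']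
    [GrpObj T] [GrpObj B] {r : ℕ} {χ : Fin r → U T} {τ : T ⟶ G'} {π : G' ⟶ B} (h : IsSemiAb r χ τ π) (s : G ⟶ G')
    [IsIso s] [IsMonHom s] : IsSemiAb r χ (τ ≫ inv s) (s ≫ π) := by
  obtain ⟨⟨h1, h2⟩, h3, h4, h5, h6, h7, h8, h9⟩ := h
  have i1 : IsIso s.left := inferInstanceAs (IsIso ((Over.forget _).map s))
  have i2 : IsIso (inv s).left := inferInstanceAs (IsIso ((Over.forget _).map (inv s)))
  have i3 : IsMonHom (inv s) := isMonHom_of_pts _ fun a b => by
    rw [← cancel_mono s, Category.assoc, IsIso.inv_hom_id, Category.comp_id, MonObj.mul_comp, Category.assoc,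
      Category.assoc, IsIso.inv_hom_id, Category.comp_id, Category.comp_id]
  refine ⟨⟨inferInstance, ?_⟩, inferInstance, h4, ?_, ?_, ?_, h8, h9⟩
  · rw [Over.comp_left]
    infer_instance
  · intro T' x
    have e : Fac (τ ≫ inv s) x ↔ Fac τ (x ≫ s) := by
      constructor
      · rintro ⟨y, rfl⟩
        exact ⟨y, by rw [Category.assoc, Category.assoc, IsIso.inv_hom_id, Category.comp_id]⟩
      · rintro ⟨y, hy⟩
        exact ⟨y, by rw [← Category.assoc, hy, Category.assoc, IsIso.hom_inv_id, Category.comp_id]⟩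
    rw [e, h5, Category.assoc]
  · rw [Over.comp_left]
    infer_instance
  · rw [Over.comp_left]
    infer_instance

end K270.MB
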