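import Groth.Agent.GrpSch.K270.MB.Shape3
import Groth.Agent.GrpSch.K270.MB.Semi
import Groth.Agent.GrpSch.K270.MB.VCompat

/-!
# The plan of S14306: the three parts of NodeEm

* `NodePackV` (helper270): the data over a henselian discrete valuation ring;
* `NodePackR`: `NodePackV` and `DVRdom` give the package over `R`;
* NodeEm from `NodePack`.

Nothing is proved here.
-/

set_option autoImplicit false
set_option linter.unusedVariables false
universe u
open CategoryTheory CategoryTheory.Limits MonoidalCategory CartesianMonoidalCategory MonObj AlgebraicGeometry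
open K999.Cart K999.EDesc K999.Scal Groth.Agent.Grpsch.PicGrp K529.KL

noncomputable section

namespace K270.MB

/-- (PACKV) The data over a henselian discrete valuation ring `V` with algebraically closed residue field. -/
def NodePackV : Prop :=
  ∀ (V : Type u) [CommRing V] [IsDomain V] [IsDiscreteValuationRing V] [HenselianLocalRing V]
    [IsAlgClosed (IsLocalRing.ResidueField V)]
    (A : Over (Spec (CommRingCat.of V))) [GrpObj A] (_ : GoodA A) (_ : IsProper (Red.bc (gen V) A).hom)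
    (L : (Red.bc (gen V) A).left.Modules) (hL : PicF.IsInvertible L)
    (Kl : Over (Spec (CommRingCat.of (FractionRing V)))) [GrpObj Kl] (j : Kl ⟶ Red.bc (gen V) A) (_ : IsMonHom j)
    (_ : ThetaGrp.IsKL (Red.bc (gen V) A) L j) (_ : IsFinite Kl.hom)
    (Λ : (Red.bc (gen V) A ⊗ Red.bc (gen V) A).left.Modules) (hΛ : PicF.IsInvertible Λ)
    (_ : mk Λ hΛ = lamC (Red.bc (gen V) A) (mk L hL)) (D : Bir (GTor.ofMod (Red.bc (gen V) A ⊗ Red.bc (gen V) A) Λ)),
    ∃ (P : (A ⊗ A).left.Modules) (DV : Bir (GTor.ofMod (A ⊗ A) P)) (θV : ∀ N : ℕ, Theta DV N)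
      (io : GBc (gen V) (GTor.ofMod (Red.bc (gen V) A ⊗ Red.bc (gen V) A) Λ) (GTor.ofMod (A ⊗ A) P) (cc (gen V) A))
      (r : ℕ) (T B : Over (Spec (CommRingCat.of (IsLocalRing.ResidueField V)))) (_ : GrpObj T) (_ : GrpObj B)
      (χ : Fin r → U T) (τ : T ⟶ Red.bc (sp (IsLocalRing.residue V)) A) (π : Red.bc (sp (IsLocalRing.residue V)) A ⟶ B)
      (n : ℕ) (eB : ∀ N : ℕ, TPairing B N),
      IsSemiAb r χ τ π ∧ 0 < n ∧
      -- the radical of the pairings on `B` is killed by `n`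
      (∀ (N : ℕ), 1 ≤ N → ∀ {T' : Over (Spec (CommRingCat.of (IsLocalRing.ResidueField V)))} (z : T' ⟶ B)
        (hz : z ^ N = 1), (∀ {T'' : Over (Spec (CommRingCat.of (IsLocalRing.ResidueField V)))} (g : T'' ⟶ T')
          (y : T'' ⟶ B) (hgz : (g ≫ z) ^ N = 1) (hy : y ^ N = 1), (eB N).e (g ≫ z) y hgz hy = 1) → z ^ n = 1) ∧
      -- the closed fibre of the pairing
      (∀ (N : ℕ), 1 ≤ N → ∀ {T' : Over (Spec (CommRingCat.of (IsLocalRing.ResidueField V)))}
        (x y : T' ⟶ Red.bc (sp (IsLocalRing.residue V)) A) (hx : x ^ N = 1) (hy : y ^ N = 1)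
        (hx' : dn (sp (IsLocalRing.residue V)) x ^ N = 1) (hy' : dn (sp (IsLocalRing.residue V)) y ^ N = 1)
        (hx'' : (x ≫ π) ^ N = 1) (hy'' : (y ≫ π) ^ N = 1),
        (θV N).e (T := (Over.map (sp (IsLocalRing.residue V))).obj T') (dn (sp (IsLocalRing.residue V)) x)
          (dn (sp (IsLocalRing.residue V)) y) hx' hy' = (eB N).e (x ≫ π) (y ≫ π) hx'' hy'')

/-- (PACK) The package over `R`: a point `φ : R →+* κ` over the closed point, the semi-abelian structure of `A_κ`, and the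
formula for the closed fibre of a pairing over `R` which extends the theta pairing of the generic fibre. -/
def NodePack : Prop :=
  ∀ (R : Type u) [CommRing R] [IsDomain R] [IsNoetherianRing R] [IsIntegrallyClosed R] [HenselianLocalRing R]
    [IsSepClosed (IsLocalRing.ResidueField R)]
    (A : Over (Spec (CommRingCat.of R))) [GrpObj A] (_ : GoodA A) (_ : IsProper (Red.bc (gen R) A).hom)
    (L : (Red.bc (gen R) A).left.Modules) (hL : PicF.IsInvertible L)
    (Kl : Over (Spec (CommRingCat.of (FractionRing R)))) [GrpObj Kl] (j : Kl ⟶ Red.bc (gen R) A) (_ : IsMonHom j)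
    (_ : ThetaGrp.IsKL (Red.bc (gen R) A) L j) (_ : IsFinite Kl.hom)
    (Λ : (Red.bc (gen R) A ⊗ Red.bc (gen R) A).left.Modules) (hΛ : PicF.IsInvertible Λ)
    (_ : mk Λ hΛ = lamC (Red.bc (gen R) A) (mk L hL)) (D : Bir (GTor.ofMod (Red.bc (gen R) A ⊗ Red.bc (gen R) A) Λ))
    (θ : ∀ N : ℕ, Theta D N),
    ∃ (κ : Type u) (_ : Field κ) (_ : IsAlgClosed κ) (φ : R →+* κ) (r : ℕ) (T B : Over (Spec (CommRingCat.of κ)))
      (_ : GrpObj T) (_ : GrpObj B) (χ : Fin r → U T) (τ : T ⟶ Red.bc (sp φ) A) (π : Red.bc (sp φ) A ⟶ B)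
      (n : ℕ) (eB : ∀ N : ℕ, TPairing B N),
      RingHom.ker φ = IsLocalRing.maximalIdeal R ∧ IsSemiAb r χ τ π ∧ 0 < n ∧
      -- the radical of the pairings on `B` is killed by `n`
      (∀ (N : ℕ), 1 ≤ N → ∀ {T' : Over (Spec (CommRingCat.of κ))} (z : T' ⟶ B)
        (hz : z ^ N = 1), (∀ {T'' : Over (Spec (CommRingCat.of κ))} (g : T'' ⟶ T')
          (y : T'' ⟶ B) (hgz : (g ≫ z) ^ N = 1) (hy : y ^ N = 1), (eB N).e (g ≫ z) y hgz hy = 1) → z ^ n = 1) ∧
      -- the closed fibre of the pairings over `R`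
      (∀ (N : ℕ), 1 ≤ N → ∀ (F : Over (Spec (CommRingCat.of R))) [GrpObj F] (f : F ⟶ A), f ^ N = 1 → Flat F.hom →
        ∀ (E : Pairing F F),
        (∀ {T' : Over (Spec (CommRingCat.of (FractionRing R)))} (x y : T' ⟶ Red.bc (gen R) F)
          (hx : (x ≫ (Over.pullback (gen R)).map f) ^ N = 1) (hy : (y ≫ (Over.pullback (gen R)).map f) ^ N = 1),
          (θ N).e (x ≫ (Over.pullback (gen R)).map f) (y ≫ (Over.pullback (gen R)).map f) hx hy =
            E.e (T := (Over.map (gen R)).obj T') (dn (gen R) x) (dn (gen R) y)) →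
        ∀ {T' : Over (Spec (CommRingCat.of κ))} (x y : T' ⟶ Red.bc (sp φ) F)
          (hx : ((x ≫ (Over.pullback (sp φ)).map f) ≫ π) ^ N = 1)
          (hy : ((y ≫ (Over.pullback (sp φ)).map f) ≫ π) ^ N = 1),
          E.e (T := (Over.map (sp φ)).obj T') (dn (sp φ) x) (dn (sp φ) y) =
            (eB N).e ((x ≫ (Over.pullback (sp φ)).map f) ≫ π) ((y ≫ (Over.pullback (sp φ)).map f) ≫ π) hx hy)

end K270.MB
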